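import Groth.Agent.DR29.Basic
import Mathlib.RingTheory.Kaehler.TensorProduct
import Mathlib.LinearAlgebra.ExteriorAlgebra.Grading
import Mathlib.RingTheory.TensorProduct.Maps

/-! Base change of exterior powers of Kaehler differentials. -/

set_option autoImplicit false

universe u

open exteriorPower TensorProduct

namespace Groth.Agent.DR29

variable (R S A B : Type u) [CommRing R] [CommRing S] [CommRing A] [CommRing B]
  [Algebra R S] [Algebra R A] [Algebra R B] [Algebra A B] [Algebra S B]
  [IsScalarTower R A B] [IsScalarTower R S B] [Algebra.IsPushout R S A B]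

/-- Base change of the ground ring of a module over the source algebra. -/
noncomputable def moduleBaseChange (N : Type u) [AddCommGroup N] [Module A N] [Module R N]
    [IsScalarTower R A N] : B ⊗[A] N ≃ₗ[R] S ⊗[R] N :=
  haveI : Algebra.IsPushout R A S B := .symm inferInstance
  let e₁ : B ⊗[A] N ≃ₗ[A] N ⊗[R] S :=
    AlgebraTensorModule.congr (Algebra.IsPushout.equiv R A S B).symm.toLinearEquiv (.refl _ _)
      ≪≫ₗ TensorProduct.comm _ _ _ ≪≫ₗ AlgebraTensorModule.cancelBaseChange ..
  e₁.restrictScalars R ≪≫ₗ TensorProduct.comm _ _ _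

theorem moduleBaseChange_algebraMap_tmul (N : Type u) [AddCommGroup N] [Module A N] [Module R N]
    [IsScalarTower R A N] (s : S) (n : N) :
    moduleBaseChange R S A B N (algebraMap S B s ⊗ₜ n) = s ⊗ₜ n := by
  haveI : Algebra.IsPushout R A S B := .symm inferInstance
  simp [moduleBaseChange, Algebra.IsPushout.equiv_symm_algebraMap_right]

/-- The degree one part of the comparison into the base change of the exterior algebra. -/
noncomputable def degOne : Ω[B⁄S] →ₗ[B] B ⊗[A] ExteriorAlgebra A (Ω[A⁄R]) :=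
  ((ExteriorAlgebra.ι A).baseChange B).comp (KaehlerDifferential.tensorKaehlerEquiv R S A B).symm.toLinearMap

theorem degOne_mul_add (x y : Ω[B⁄S]) :
    degOne R S A B x * degOne R S A B y + degOne R S A B y * degOne R S A B x = 0 := by
  obtain ⟨x, rfl⟩ := (KaehlerDifferential.tensorKaehlerEquiv R S A B).surjective x
  obtain ⟨y, rfl⟩ := (KaehlerDifferential.tensorKaehlerEquiv R S A B).surjective y
  simp only [degOne, LinearMap.comp_apply, LinearEquiv.coe_coe, LinearEquiv.symm_apply_apply]
  induction x with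
  | zero => simp
  | add x x' hx hx' =>
    rw [map_add, add_mul, mul_add, add_add_add_comm, hx, hx', add_zero]
  | tmul c m =>
    induction y with
    | zero => simp
    | add y y' hy hy' =>
      rw [map_add, add_mul, mul_add, add_add_add_comm, hy, hy', add_zero]
    | tmul e n =>
      rw [LinearMap.baseChange_tmul, LinearMap.baseChange_tmul, Algebra.TensorProduct.tmul_mul_tmul,
        Algebra.TensorProduct.tmul_mul_tmul, mul_comm e c, ← TensorProduct.tmul_add,
        ExteriorAlgebra.ι_add_mul_swap, TensorProduct.tmul_zero]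

theorem degOne_sq (x : Ω[B⁄S]) : degOne R S A B x * degOne R S A B x = 0 := by
  obtain ⟨x, rfl⟩ := (KaehlerDifferential.tensorKaehlerEquiv R S A B).surjective x
  induction x with
  | zero => simp
  | add x y hx hy =>
    rw [map_add, map_add, add_mul, mul_add, mul_add, hx, hy, zero_add, add_zero]
    exact degOne_mul_add R S A B _ _
  | tmul c m =>
    simp only [degOne, LinearMap.comp_apply, LinearEquiv.coe_coe, LinearEquiv.symm_apply_apply,
      LinearMap.baseChange_tmul, Algebra.TensorProduct.tmul_mul_tmul, ExteriorAlgebra.ι_sq_zero,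
      TensorProduct.tmul_zero]

/-- Projection of the exterior algebra onto a graded piece. -/
noncomputable def projPiece (M : Type u) [AddCommGroup M] [Module A M] (p : ℕ) :
    ExteriorAlgebra A M →ₗ[A] ↥(⋀[A]^p M) :=
  (DirectSum.component A ℕ (fun i => ↥(⋀[A]^i M)) p).comp
    (DirectSum.decomposeLinearEquiv (fun i : ℕ => ⋀[A]^i M)).toLinearMap

theorem projPiece_coe (M : Type u) [AddCommGroup M] [Module A M] (p : ℕ) (x : ↥(⋀[A]^p M)) :
    projPiece A M p (x : ExteriorAlgebra A M) = x := by
  show (DirectSum.decompose (fun i : ℕ => ⋀[A]^i M) (x : ExteriorAlgebra A M)) p = x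
  rw [DirectSum.decompose_coe]
  exact DirectSum.of_eq_same (β := fun i : ℕ => ↥(⋀[A]^i M)) p x

/-- The inverse comparison. -/
noncomputable def toBaseChange (p : ℕ) : ↥(⋀[B]^p (Ω[B⁄S])) →ₗ[B] B ⊗[A] ↥(⋀[A]^p (Ω[A⁄R])) :=
  ((projPiece A (Ω[A⁄R]) p).baseChange B).comp
    ((ExteriorAlgebra.lift B ⟨degOne R S A B, degOne_sq R S A B⟩).toLinearMap.comp
      (⋀[B]^p (Ω[B⁄S])).subtype)

theorem toBaseChange_gen (p : ℕ) (b₀ : A) (b : Fin p → A) :
    toBaseChange R S A B p (DeRham.gen (KaehlerDifferential.D S B) p (algebraMap A B b₀)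
        (fun i => algebraMap A B (b i))) =
      1 ⊗ₜ DeRham.gen (KaehlerDifferential.D R A) p b₀ b := by
  have h1 : ∀ a : A, degOne R S A B (KaehlerDifferential.D S B (algebraMap A B a)) =
      (1 : B) ⊗ₜ ExteriorAlgebra.ι A (KaehlerDifferential.D R A a) := fun a => by
    have h := KaehlerDifferential.tensorKaehlerEquiv_tmul_D R S A B (1 : B) a
    rw [one_smul] at h
    simp only [degOne, LinearMap.comp_apply, LinearEquiv.coe_coe, ← h, LinearEquiv.symm_apply_apply,
      LinearMap.baseChange_tmul]
  let inc : ExteriorAlgebra A (Ω[A⁄R]) →ₐ[A] B ⊗[A] ExteriorAlgebra A (Ω[A⁄R]) :=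
    Algebra.TensorProduct.includeRight
  have hev : (ExteriorAlgebra.lift B ⟨degOne R S A B, degOne_sq R S A B⟩)
      (ExteriorAlgebra.ιMulti B p (fun i => KaehlerDifferential.D S B (algebraMap A B (b i)))) =
      (1 : B) ⊗ₜ ExteriorAlgebra.ιMulti A p (fun i => KaehlerDifferential.D R A (b i)) := by
    show _ = inc _
    rw [ExteriorAlgebra.ιMulti_apply, ExteriorAlgebra.ιMulti_apply, map_list_prod, map_list_prod,
      List.map_ofFn, List.map_ofFn]
    congr 2
    funext i
    simp [Function.comp_def, inc, h1]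
  rw [DeRham.gen, DeRham.gen, map_smul, TensorProduct.tmul_smul, algebraMap_smul]
  congr 1
  rw [toBaseChange, LinearMap.comp_apply, LinearMap.comp_apply, Submodule.subtype_apply,
    ιMulti_apply_coe]
  erw [hev]
  rw [LinearMap.baseChange_tmul, ← ιMulti_apply_coe, projPiece_coe]

theorem toBaseChange_cxMap (ψ : ∀ p : ℕ, ↥(⋀[A]^p (Ω[A⁄R])) →+ ↥(⋀[B]^p (Ω[B⁄S])))
    (hψ : DeRham.IsCxMap (KaehlerDifferential.D R A) (KaehlerDifferential.D S B) (algebraMap A B) ψ)
    (p : ℕ) (x : ↥(⋀[A]^p (Ω[A⁄R]))) : toBaseChange R S A B p (ψ p x) = 1 ⊗ₜ x :=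
  induction_gen (span_kaehler R A) (P := fun x => toBaseChange R S A B p (ψ p x) = 1 ⊗ₜ x) (by simp)
    (fun x y hx hy => by rw [map_add, map_add, hx, hy, TensorProduct.tmul_add])
    (fun b₀ b => by rw [hψ]; exact toBaseChange_gen R S A B p b₀ b) x

include R in
theorem span_D_algebraMap :
    Submodule.span B (Set.range fun a : A => KaehlerDifferential.D S B (algebraMap A B a)) = ⊤ := by
  rw [eq_top_iff]
  intro ω hω
  clear hω
  obtain ⟨t, rfl⟩ := (KaehlerDifferential.tensorKaehlerEquiv R S A B).surjective ω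
  induction t with
  | zero => simp
  | add x y hx hy => rw [map_add]; exact add_mem hx hy
  | tmul c m =>
    have hm : m ∈ Submodule.span A (Set.range (KaehlerDifferential.D R A)) := by
      rw [span_kaehler]; trivial
    induction hm using Submodule.span_induction generalizing c with
    | mem m hm =>
      obtain ⟨a, rfl⟩ := hm
      rw [KaehlerDifferential.tensorKaehlerEquiv_tmul_D]
      exact Submodule.smul_mem _ _ (Submodule.subset_span ⟨a, rfl⟩)
    | zero => simp
    | add x y _ _ hx hy => rw [TensorProduct.tmul_add, map_add]; exact add_mem (hx c) (hy c)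
    | smul a x _ hx => rw [← TensorProduct.smul_tmul]; exact hx _

theorem baseChange_bijective (ψ : ∀ p : ℕ, ↥(⋀[A]^p (Ω[A⁄R])) →+ ↥(⋀[B]^p (Ω[B⁄S])))
    (hψ : DeRham.IsCxMap (KaehlerDifferential.D R A) (KaehlerDifferential.D S B) (algebraMap A B) ψ)
    (p : ℕ) (Φ : S ⊗[R] ↥(⋀[A]^p (Ω[A⁄R])) →+ ↥(⋀[B]^p (Ω[B⁄S])))
    (hΦ : ∀ (s : S) (x : ↥(⋀[A]^p (Ω[A⁄R]))), Φ (s ⊗ₜ[R] x) = s • ψ p x) :
    Function.Bijective Φ := by
  let e := moduleBaseChange R S A B ↥(⋀[A]^p (Ω[A⁄R]))
  have hleft : ∀ t, e (toBaseChange R S A B p (Φ t)) = t := by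
    intro t
    induction t with
    | zero => simp
    | add x y hx hy => rw [map_add, map_add, map_add, hx, hy]
    | tmul s x =>
      rw [hΦ, ← algebraMap_smul B s (ψ p x), map_smul, toBaseChange_cxMap R S A B ψ hψ,
        TensorProduct.smul_tmul', smul_eq_mul, mul_one]
      exact moduleBaseChange_algebraMap_tmul R S A B _ s x
  refine ⟨Function.LeftInverse.injective (g := fun y => e (toBaseChange R S A B p y)) hleft, fun y => ?_⟩
  have hy : y ∈ Submodule.span B (ιMulti B p '' {v | Set.range v ⊆
      Set.range fun a : A => KaehlerDifferential.D S B (algebraMap A B a)}) := by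
    rw [exteriorPower.ιMulti_span_of_span B p _ (span_D_algebraMap R S A B)]; trivial
  suffices ∀ c : B, c • y ∈ Φ.range by simpa using this 1
  induction hy using Submodule.span_induction with
  | zero => intro c; rw [smul_zero]; exact zero_mem _
  | add x y _ _ hx hy => intro c; rw [smul_add]; exact add_mem (hx c) (hy c)
  | smul a x _ hx => intro c; rw [smul_smul]; exact hx _
  | mem z hz =>
    obtain ⟨v, hv, rfl⟩ := hz
    choose b hb using fun i => hv (Set.mem_range_self i)
    have hv' : v = fun i => KaehlerDifferential.D S B (algebraMap A B (b i)) :=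
      funext fun i => (hb i).symm
    intro c
    obtain ⟨t, rfl⟩ := (Algebra.IsPushout.equiv R S A B).surjective c
    induction t with
    | zero => rw [map_zero, zero_smul]; exact zero_mem _
    | add x y hx hy => rw [map_add, add_smul]; exact add_mem hx hy
    | tmul s a =>
      refine ⟨s ⊗ₜ DeRham.gen (KaehlerDifferential.D R A) p a b, ?_⟩
      rw [hΦ, hψ, hv', Algebra.IsPushout.equiv_tmul, mul_smul, algebraMap_smul B s, DeRham.gen]

end Groth.Agent.DR29
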