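import Groth.Prelude.Def_DeRham
import Mathlib.RingTheory.Kaehler.Basic

/-! Degreewise calculus of de Rham differentials. -/

set_option autoImplicit false

universe v u v' u'

open exteriorPower

namespace Groth.Agent.DR29

section Gen

variable {R : Type v} {A M : Type u} [CommRing R] [CommRing A] [Algebra R A]
  [AddCommGroup M] [Module A M] [Module R M] {δ : Derivation R A M}

theorem smul_gen (δ : Derivation R A M) (p : ℕ) (a b₀ : A) (b : Fin p → A) :
    a • DeRham.gen δ p b₀ b = DeRham.gen δ p (a * b₀) b := by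
  rw [DeRham.gen, DeRham.gen, smul_smul]

theorem induction_gen (hspan : Submodule.span A (Set.range δ) = ⊤) {p : ℕ}
    {P : ↥(⋀[A]^p M) → Prop} (h0 : P 0) (hadd : ∀ x y, P x → P y → P (x + y))
    (hgen : ∀ b₀ b, P (DeRham.gen δ p b₀ b)) (x : ↥(⋀[A]^p M)) : P x := by
  have hx : x ∈ Submodule.span A (ιMulti A p '' {a | Set.range a ⊆ Set.range δ}) := by
    rw [exteriorPower.ιMulti_span_of_span A p M hspan]; trivial
  suffices ∀ a : A, P (a • x) by simpa using this 1
  induction hx using Submodule.span_induction with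
  | mem z hz =>
    obtain ⟨w, hw, rfl⟩ := hz
    intro a
    choose b hb using fun i => hw (Set.mem_range_self i)
    have : w = fun i => δ (b i) := funext fun i => (hb i).symm
    rw [this]
    exact hgen a b
  | zero => intro a; rwa [smul_zero]
  | add z w _ _ hz hw => intro a; rw [smul_add]; exact hadd _ _ (hz a) (hw a)
  | smul c z _ hz => intro a; rw [smul_smul]; exact hz _

theorem addMonoidHom_ext (hspan : Submodule.span A (Set.range δ) = ⊤) {p : ℕ} {N : Type*}
    [AddCommGroup N] {f g : ↥(⋀[A]^p M) →+ N}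
    (h : ∀ b₀ b, f (DeRham.gen δ p b₀ b) = g (DeRham.gen δ p b₀ b)) : f = g :=
  AddMonoidHom.ext fun x => induction_gen hspan (P := fun x => f x = g x) (by simp)
    (fun x y hx hy => by rw [map_add, map_add, hx, hy]) h x

theorem iMulti_cons_eq_gen (δ : Derivation R A M) (p : ℕ) (b₀ : A) (b : Fin p → A) :
    ιMulti A (p + 1) (Fin.cons (δ b₀) (fun i => δ (b i))) =
      DeRham.gen δ (p + 1) 1 (Fin.cons b₀ b) := by
  rw [DeRham.gen, one_smul]
  congr 1
  funext i
  cases i using Fin.cases <;> simp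

omit [Algebra R A] [Module R M] in
theorem cons_add {p : ℕ} (x y : M) (v : Fin p → M) :
    ιMulti A (p + 1) (Fin.cons (x + y) v) =
      ιMulti A (p + 1) (Fin.cons x v) + ιMulti A (p + 1) (Fin.cons y v) := by
  have h := (ιMulti A (p + 1)).map_update_add (Fin.cons (0 : M) v) 0 x y
  rwa [Fin.update_cons_zero, Fin.update_cons_zero, Fin.update_cons_zero] at h

omit [Algebra R A] [Module R M] in
theorem cons_smul {p : ℕ} (c : A) (x : M) (v : Fin p → M) :
    ιMulti A (p + 1) (Fin.cons (c • x) v) = c • ιMulti A (p + 1) (Fin.cons x v) := by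
  have h := (ιMulti A (p + 1)).map_update_smul (Fin.cons (0 : M) v) 0 c x
  rwa [Fin.update_cons_zero, Fin.update_cons_zero] at h

variable [IsScalarTower R A M] {d : ∀ p : ℕ, ↥(⋀[A]^p M) →ₗ[R] ↥(⋀[A]^(p + 1) M)}

theorem isDiff_of_isRule (hspan : Submodule.span A (Set.range δ) = ⊤) (hd : DeRham.IsRule δ d) :
    DeRham.IsDiff δ d := by
  refine ⟨hd, fun p => LinearMap.ext fun x =>
    induction_gen hspan (P := fun x => d (p + 1) (d p x) = 0) (by simp)
      (fun x y hx hy => by rw [map_add, map_add, hx, hy, add_zero]) (fun b₀ b => ?_) x⟩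
  rw [hd, iMulti_cons_eq_gen, hd, Derivation.map_one_eq_zero]
  exact (ιMulti A (p + 2)).map_coord_zero 0 (by simp)

theorem isRule_unique (hspan : Submodule.span A (Set.range δ) = ⊤)
    {d' : ∀ p : ℕ, ↥(⋀[A]^p M) →ₗ[R] ↥(⋀[A]^(p + 1) M)} (hd : DeRham.IsRule δ d)
    (hd' : DeRham.IsRule δ d') (p : ℕ) (x : ↥(⋀[A]^p M)) : d p x = d' p x :=
  induction_gen hspan (P := fun x => d p x = d' p x) (by simp)
    (fun x y hx hy => by rw [map_add, map_add, hx, hy]) (fun b₀ b => by rw [hd, hd']) x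

/-- The rule in the form of a product rule in the scalar. -/
theorem diff_smul_gen (hd : DeRham.IsRule δ d) (p : ℕ) (a b₀ : A) (b : Fin p → A) :
    d p (a • DeRham.gen δ p b₀ b) - a • d p (DeRham.gen δ p b₀ b) =
      b₀ • ιMulti A (p + 1) (Fin.cons (δ a) (fun i => δ (b i))) := by
  rw [smul_gen, hd, hd, Derivation.leibniz, cons_add, cons_smul, cons_smul, add_sub_cancel_left]

theorem commute_diff (hspan : Submodule.span A (Set.range δ) = ⊤) (hd : DeRham.IsRule δ d)
    (p : ℕ) (a c : A) (x : ↥(⋀[A]^p M)) :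
    d p (a • c • x) - a • d p (c • x) = c • (d p (a • x) - a • d p x) := by
  refine induction_gen hspan (P := fun x =>
    d p (a • c • x) - a • d p (c • x) = c • (d p (a • x) - a • d p x)) (by simp)
    (fun x y hx hy => ?_) (fun b₀ b => ?_) x
  · simp only [smul_add, map_add, add_sub_add_comm, hx, hy]
  · rw [smul_gen δ p c b₀ b, diff_smul_gen hd, diff_smul_gen hd, mul_smul]

end Gen

section Naturality

variable {R : Type v} {A M : Type u} [CommRing R] [CommRing A] [Algebra R A]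
  [AddCommGroup M] [Module A M] [Module R M] [IsScalarTower R A M]
  {R' : Type v'} {A' M' : Type u'} [CommRing R'] [CommRing A'] [Algebra R' A']
  [AddCommGroup M'] [Module A' M'] [Module R' M'] [IsScalarTower R' A' M']
  {δ : Derivation R A M} {δ' : Derivation R' A' M'} {g : A →+* A'}
  {d : ∀ p : ℕ, ↥(⋀[A]^p M) →ₗ[R] ↥(⋀[A]^(p + 1) M)}
  {d' : ∀ p : ℕ, ↥(⋀[A']^p M') →ₗ[R'] ↥(⋀[A']^(p + 1) M')}
  {ψ : ∀ p : ℕ, ↥(⋀[A]^p M) →+ ↥(⋀[A']^p M')}

theorem comm_of_isCxMap (hspan : Submodule.span A (Set.range δ) = ⊤) (hd : DeRham.IsRule δ d)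
    (hd' : DeRham.IsRule δ' d') (hψ : DeRham.IsCxMap δ δ' g ψ) (p : ℕ) (x : ↥(⋀[A]^p M)) :
    ψ (p + 1) (d p x) = d' p (ψ p x) := by
  refine induction_gen hspan (P := fun x => ψ (p + 1) (d p x) = d' p (ψ p x)) (by simp)
    (fun x y hx hy => by simp only [map_add, hx, hy]) (fun b₀ b => ?_) x
  rw [hd, iMulti_cons_eq_gen, hψ, hψ, hd', iMulti_cons_eq_gen, map_one]
  congr 1
  funext i
  cases i using Fin.cases <;> simp

theorem isCxMap_unique (hspan : Submodule.span A (Set.range δ) = ⊤)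
    {ψ' : ∀ p : ℕ, ↥(⋀[A]^p M) →+ ↥(⋀[A']^p M')}
    (hψ : DeRham.IsCxMap δ δ' g ψ) (hψ' : DeRham.IsCxMap δ δ' g ψ') (p : ℕ) : ψ p = ψ' p :=
  addMonoidHom_ext hspan fun b₀ b => by rw [hψ, hψ']

theorem cxMap_smul (hspan : Submodule.span A (Set.range δ) = ⊤) (hψ : DeRham.IsCxMap δ δ' g ψ)
    (p : ℕ) (a : A) (x : ↥(⋀[A]^p M)) : ψ p (a • x) = g a • ψ p x := by
  refine induction_gen hspan (P := fun x => ψ p (a • x) = g a • ψ p x) (by simp)
    (fun x y hx hy => by simp only [smul_add, map_add, hx, hy]) (fun b₀ b => ?_) x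
  rw [smul_gen, hψ, hψ, smul_gen, map_mul]

end Naturality

theorem span_kaehler (R A : Type u) [CommRing R] [CommRing A] [Algebra R A] :
    Submodule.span A (Set.range (KaehlerDifferential.D R A)) = ⊤ :=
  KaehlerDifferential.span_range_derivation R A

theorem exists_isCxMap_kaehler (R S A B : Type u) [CommRing R] [CommRing S] [CommRing A] [CommRing B]
    [Algebra R S] [Algebra R A] [Algebra R B] [Algebra A B] [Algebra S B]
    [IsScalarTower R A B] [IsScalarTower R S B] :
    ∃ ψ : ∀ p : ℕ, ↥(⋀[A]^p (Ω[A⁄R])) →+ ↥(⋀[B]^p (Ω[B⁄S])),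
      DeRham.IsCxMap (KaehlerDifferential.D R A) (KaehlerDifferential.D S B) (algebraMap A B) ψ := by
  let alt : (p : ℕ) → (Ω[B⁄S]) [⋀^Fin p]→ₗ[A] ↥(⋀[B]^p (Ω[B⁄S])) := fun p =>
    { (ιMulti B p (M := Ω[B⁄S])).toMultilinearMap.restrictScalars A with
      map_eq_zero_of_eq' := fun v i j h hij => (ιMulti B p).map_eq_zero_of_eq v h hij }
  let L : (p : ℕ) → ↥(⋀[A]^p (Ω[A⁄R])) →ₗ[A] ↥(⋀[B]^p (Ω[B⁄S])) := fun p =>
    alternatingMapLinearEquiv ((alt p).compLinearMap (KaehlerDifferential.map R S A B))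
  refine ⟨fun p => (L p).toAddMonoidHom, fun p b₀ b => ?_⟩
  show L p (b₀ • ιMulti A p _) = _
  rw [map_smul, alternatingMapLinearEquiv_apply_ιMulti, DeRham.gen, algebraMap_smul]
  show b₀ • ιMulti B p _ = _
  congr 2
  funext i
  exact KaehlerDifferential.map_D R S A B (b i)

end Groth.Agent.DR29
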