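import Mathlib.Algebra.MvPolynomial.PDeriv
import Mathlib.Algebra.MvPolynomial.CommRing
import Mathlib.FieldTheory.Perfect
import Mathlib.Algebra.CharP.Lemmas
import Mathlib.RingTheory.Ideal.Maps
import Mathlib.Data.ZMod.Basic
import Mathlib.Algebra.Field.ZMod
import Mathlib.RingTheory.MvPolynomial.Basic

/-! The Cartier decomposition of closed one-forms on affine space modulo an ideal generated by
`p`-th powers. -/

set_option autoImplicit false

universe u

open MvPolynomial

namespace Groth.Agent.DR29.CartierPoly

section Identity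

/-- The chain rule for a derivation and a polynomial in `v`. -/
theorem derivation_aeval {R S : Type*} [CommRing R] [CommRing S] [Algebra R S] {M : Type*}
    [AddCommGroup M] [Module S M] [Module R M] (D : Derivation R S M) {m : ℕ} (v : Fin m → S)
    (T : MvPolynomial (Fin m) ℤ) :
    D (aeval v T) = ∑ i, aeval v (pderiv i T) • D (v i) := by
  induction T using MvPolynomial.induction_on with
  | C a => simp
  | add f g hf hg => simp only [map_add, hf, hg, add_smul, Finset.sum_add_distrib]
  | mul_X f j hf =>
    classical
    rw [map_mul, aeval_X, Derivation.leibniz, hf, Finset.smul_sum]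
    simp only [pderiv_mul, map_add, map_mul, aeval_X, add_smul, Finset.sum_add_distrib, smul_smul]
    rw [add_comm]
    congr 1
    · exact Finset.sum_congr rfl fun i _ => by rw [mul_comm]
    · rw [Finset.sum_eq_single j]
      · simp
      · intro i _ hij; simp [hij]
      · simp

/-- `g ↦ g^(p-1) dg` is additive up to exact elements. -/
theorem exists_eq_add_pow_pred (p : ℕ) [hp : Fact p.Prime] {R S : Type*} [CommRing R] [CommRing S]
    [Algebra R S] {M : Type*} [AddCommGroup M] [Module S M] [Module R M] (D : Derivation R S M) (g h : S) :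
    ∃ t, D t = (g + h) ^ (p - 1) • D (g + h) - g ^ (p - 1) • D g - h ^ (p - 1) • D h := by
  obtain ⟨r, hr⟩ := exists_add_pow_prime_eq hp.out (X 0 : MvPolynomial (Fin 2) ℤ) (X 1)
  set T : MvPolynomial (Fin 2) ℤ := X 0 * X 1 * r with hT
  have hT' : (p : MvPolynomial (Fin 2) ℤ) * T = (X 0 + X 1) ^ p - X 0 ^ p - X 1 ^ p := by
    rw [hT, hr]; ring
  have hne : (p : MvPolynomial (Fin 2) ℤ) ≠ 0 := Nat.cast_ne_zero.2 hp.out.ne_zero
  have key : ∀ i : Fin 2, pderiv i T =
      (X 0 + X 1) ^ (p - 1) * (pderiv i (X 0) + pderiv i (X 1)) - X 0 ^ (p - 1) * pderiv i (X 0) -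
        X 1 ^ (p - 1) * pderiv i (X 1) := fun i => by
    refine mul_left_cancel₀ hne ?_
    have h1 := congrArg (pderiv i) hT'
    rw [pderiv_mul, Derivation.map_natCast, zero_mul, zero_add, map_sub, map_sub, Derivation.leibniz_pow,
      Derivation.leibniz_pow, Derivation.leibniz_pow, map_add] at h1
    rw [h1]
    simp only [nsmul_eq_mul, smul_eq_mul]
    ring
  refine ⟨aeval ![g, h] T, ?_⟩
  rw [derivation_aeval, Fin.sum_univ_two, key, key]
  simp only [pderiv_X_self, pderiv_X_of_ne (show (1 : Fin 2) ≠ 0 by decide),
    pderiv_X_of_ne (show (0 : Fin 2) ≠ 1 by decide), map_sub, map_add, map_mul, map_pow, aeval_X,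
    map_one, map_zero, Matrix.cons_val_zero, Matrix.cons_val_one, mul_one, mul_zero, add_zero, zero_add,
    sub_zero, sub_smul, smul_add]
  abel

end Identity

variable {A : Type u} [CommRing A] {n : ℕ}

local notation "P" => MvPolynomial (Fin n) A

theorem pderiv_comm (i k : Fin n) (f : P) : pderiv i (pderiv k f) = pderiv k (pderiv i f) := by
  induction f using MvPolynomial.induction_on with
  | C a => simp
  | add f g hf hg => simp only [map_add, hf, hg]
  | mul_X f j hf =>
    classical
    simp only [pderiv_mul, map_add, pderiv_X, Pi.single_apply, hf]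
    split_ifs <;> simp <;> ring

/-- A monomialwise operator. -/
noncomputable def op (σ : (Fin n →₀ ℕ) → (Fin n →₀ ℕ)) (ε : (Fin n →₀ ℕ) → A) : P →ₗ[A] P :=
  (basisMonomials (Fin n) A).constr A fun α => monomial (σ α) (ε α)

theorem op_monomial (σ : (Fin n →₀ ℕ) → (Fin n →₀ ℕ)) (ε : (Fin n →₀ ℕ) → A) (α : Fin n →₀ ℕ) (c : A) :
    op σ ε (monomial α c) = monomial (σ α) (c * ε α) := by
  rw [show (monomial α c : P) = c • basisMonomials (Fin n) A α by
    rw [coe_basisMonomials, smul_monomial, smul_eq_mul, mul_one], map_smul, op,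
    Module.Basis.constr_basis, smul_monomial, smul_eq_mul]

variable (p : ℕ) [hp : Fact p.Prime] [CharP A p]

theorem monomial_pow_p (α : Fin n →₀ ℕ) (c : A) : (monomial α c : P) ^ p = monomial (p • α) (c ^ p) :=
  monomial_pow

/-- The ideal generated by the `p`-th powers of an ideal. -/
noncomputable def frobIdeal (I : Ideal P) : Ideal P := Ideal.span ((fun u => u ^ p) '' (I : Set P))

omit hp [CharP A p] in
theorem frobIdeal_le (I : Ideal P) [Fact p.Prime] : frobIdeal p I ≤ I := by
  rw [frobIdeal, Ideal.span_le]
  rintro _ ⟨u, hu, rfl⟩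
  exact I.pow_mem_of_mem hu p (Fact.out : p.Prime).pos

theorem add_pow_p (u v : P) : (u + v) ^ p = u ^ p + v ^ p := add_pow_char u v p

theorem map_pow_mul_of_monomial {φ ψ : P →+ P}
    (h : ∀ γ c α e, φ ((monomial γ c) ^ p * monomial α e) = (monomial γ c) ^ p * ψ (monomial α e))
    (u v : P) : φ (u ^ p * v) = u ^ p * ψ v := by
  induction u using MvPolynomial.induction_on' with
  | monomial γ c =>
    induction v using MvPolynomial.induction_on' with
    | monomial α e => exact h γ c α e
    | add f g hf hg => rw [mul_add, map_add, hf, hg, map_add, mul_add]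
  | add f g hf hg => rw [add_pow_p, add_mul, map_add, hf, hg, add_mul]

theorem mem_frobIdeal_of_linear {φ : P →+ P} (hφ : ∀ u v, φ (u ^ p * v) = u ^ p * φ v) {I : Ideal P}
    {x : P} (hx : x ∈ frobIdeal p I) : φ x ∈ frobIdeal p I := by
  suffices ∀ v : P, φ (x * v) ∈ frobIdeal p I by simpa using this 1
  induction hx using Submodule.span_induction with
  | mem y hy =>
    obtain ⟨u, hu, rfl⟩ := hy
    intro v
    rw [hφ]
    exact Ideal.mul_mem_right _ _ (Ideal.subset_span ⟨u, hu, rfl⟩)
  | zero => intro v; simp
  | add y z _ _ hy hz => intro v; rw [add_mul, map_add]; exact add_mem (hy v) (hz v)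
  | smul c y _ hy => intro v; rw [smul_eq_mul, mul_comm c, mul_assoc]; exact hy _

theorem op_pow_mul (σ : (Fin n →₀ ℕ) → (Fin n →₀ ℕ)) (ε : (Fin n →₀ ℕ) → A)
    (hσ : ∀ α γ, σ (α + p • γ) = σ α + p • γ) (hε : ∀ α γ, ε (α + p • γ) = ε α) (u v : P) :
    op σ ε (u ^ p * v) = u ^ p * op σ ε v := by
  refine map_pow_mul_of_monomial p (φ := (op σ ε).toAddMonoidHom) (ψ := (op σ ε).toAddMonoidHom)
    (fun γ c α e => ?_) u v
  simp only [LinearMap.toAddMonoidHom_coe, monomial_pow_p, monomial_mul, op_monomial,
    add_comm (p • γ), hσ, hε, mul_assoc]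

theorem pderiv_pow_mul (i : Fin n) (u v : P) : pderiv i (u ^ p * v) = u ^ p * pderiv i v := by
  rw [pderiv_mul, Derivation.leibniz_pow, nsmul_eq_mul, CharP.cast_eq_zero, zero_mul, zero_mul, zero_add]

theorem pderiv_mem_frobIdeal (i : Fin n) {I : Ideal P} {x : P} (hx : x ∈ frobIdeal p I) :
    pderiv i x ∈ frobIdeal p I :=
  mem_frobIdeal_of_linear p (φ := (pderiv (R := A) i).toLinearMap.toAddMonoidHom)
    (pderiv_pow_mul p i) hx

/-- The scalar attached to a residue. -/
noncomputable def ic (z : ZMod p) : A := ZMod.castHom (dvd_refl p) A z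

theorem ic_natCast (m : ℕ) : (ic p (m : ZMod p) : A) = m := map_natCast _ m

theorem ic_mul (z : ZMod p) (m : ℕ) : ic p z * (m : A) = ic p (z * (m : ZMod p)) := by
  rw [← ic_natCast p m]
  exact (map_mul (ZMod.castHom (dvd_refl p) A) _ _).symm

theorem natCast_periodic (i : Fin n) (α γ : Fin n →₀ ℕ) :
    (((α + p • γ : Fin n →₀ ℕ) i : ℕ) : ZMod p) = (α i : ZMod p) := by
  simp

/-- Integration in the `i`th variable. -/
noncomputable def S (i : Fin n) : P →ₗ[A] P :=
  op (fun α => α + Finsupp.single i 1) fun α => ic p ((α i : ZMod p) + 1)⁻¹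

/-- The part of `i`th degree `-1`. -/
noncomputable def R (i : Fin n) : P →ₗ[A] P :=
  op id fun α => if (α i : ZMod p) + 1 = 0 then 1 else 0

/-- The part of `i`th degree `0`. -/
noncomputable def Z (i : Fin n) : P →ₗ[A] P :=
  op id fun α => if (α i : ZMod p) = 0 then 1 else 0

theorem S_pow_mul (i : Fin n) (u v : P) : S p i (u ^ p * v) = u ^ p * S p i v :=
  by
    unfold S
    exact op_pow_mul p _ _ (fun α γ => add_right_comm α (p • γ) (Finsupp.single i 1))
      (fun α γ => by rw [natCast_periodic p i α γ]) u v

theorem R_pow_mul (i : Fin n) (u v : P) : R p i (u ^ p * v) = u ^ p * R p i v := by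
  unfold R
  exact op_pow_mul p _ _ (fun _ _ => rfl) (fun α γ => by rw [natCast_periodic p i α γ]) u v

theorem S_mem (i : Fin n) {I : Ideal P} {x : P} (hx : x ∈ frobIdeal p I) : S p i x ∈ frobIdeal p I :=
  mem_frobIdeal_of_linear p (φ := (S p i).toAddMonoidHom) (S_pow_mul p i) hx

theorem R_mem (i : Fin n) {I : Ideal P} {x : P} (hx : x ∈ frobIdeal p I) : R p i x ∈ frobIdeal p I :=
  mem_frobIdeal_of_linear p (φ := (R p i).toAddMonoidHom) (R_pow_mul p i) hx

theorem pderiv_S (i : Fin n) (g : P) : pderiv i (S p i g) = g - R p i g := by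
  induction g using MvPolynomial.induction_on' with
  | add f g hf hg => simp only [map_add, hf, hg]; abel
  | monomial α c =>
    rw [S, R, op_monomial, op_monomial, pderiv_monomial, add_tsub_cancel_right, id, Finsupp.add_apply,
      Finsupp.single_eq_same, mul_assoc, ic_mul, Nat.cast_add, Nat.cast_one]
    split_ifs with h
    · rw [h, mul_zero, ic, map_zero, mul_zero, map_zero, mul_one, sub_self]
    · rw [inv_mul_cancel₀ h, ic, map_one, mul_zero, map_zero, mul_one, sub_zero]

theorem pderiv_S_comm {i k : Fin n} (h : k ≠ i) (g : P) : pderiv k (S p i g) = S p i (pderiv k g) := by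
  induction g using MvPolynomial.induction_on' with
  | add f g hf hg => simp only [map_add, hf, hg]
  | monomial α c =>
    rw [S, op_monomial, pderiv_monomial, pderiv_monomial, op_monomial, Finsupp.add_apply,
      Finsupp.single_eq_of_ne h, add_zero, Finsupp.tsub_apply, Finsupp.single_eq_of_ne (Ne.symm h),
      tsub_zero, mul_right_comm]
    refine congrArg (fun z => monomial z _) (Finsupp.ext fun a => ?_)
    simp only [Finsupp.add_apply, Finsupp.tsub_apply, Finsupp.single_apply]
    split_ifs with h1 h2
    · exact absurd (h2.trans h1.symm) h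
    all_goals omega

theorem pderiv_R_comm {i k : Fin n} (h : k ≠ i) (g : P) : pderiv k (R p i g) = R p i (pderiv k g) := by
  induction g using MvPolynomial.induction_on' with
  | add f g hf hg => simp only [map_add, hf, hg]
  | monomial α c =>
    rw [R, op_monomial, pderiv_monomial, pderiv_monomial, op_monomial, Finsupp.tsub_apply,
      Finsupp.single_eq_of_ne (Ne.symm h), tsub_zero, id, id, mul_right_comm]

theorem R_pderiv (i : Fin n) (g : P) : R p i (pderiv i g) = 0 := by
  induction g using MvPolynomial.induction_on' with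
  | add f g hf hg => simp only [map_add, hf, hg, add_zero]
  | monomial α c =>
    rw [R, pderiv_monomial, op_monomial, monomial_eq_zero, Finsupp.tsub_apply, Finsupp.single_eq_same]
    by_cases h0 : α i = 0
    · simp [h0]
    · rw [Nat.cast_sub (by omega), Nat.cast_one, sub_add_cancel]
      split_ifs with h
      · rw [(by rw [← ic_natCast p, h, ic, map_zero] : (α i : A) = 0), mul_zero, zero_mul]
      · rw [mul_zero]

theorem R_R (i : Fin n) (g : P) : R p i (R p i g) = R p i g := by
  induction g using MvPolynomial.induction_on' with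
  | add f g hf hg => simp only [map_add, hf, hg]
  | monomial α c =>
    rw [R, op_monomial, op_monomial]
    simp only [id]
    split_ifs <;> simp

theorem S_pderiv (k : Fin n) (g : P) : S p k (pderiv k g) = g - Z p k g := by
  induction g using MvPolynomial.induction_on' with
  | add f g hf hg => simp only [map_add, hf, hg]; abel
  | monomial α c =>
    rw [S, Z, pderiv_monomial, op_monomial, op_monomial, id, Finsupp.tsub_apply, Finsupp.single_eq_same]
    by_cases h0 : α k = 0
    · simp [h0]
    · rw [Nat.cast_sub (by omega), Nat.cast_one, sub_add_cancel, mul_assoc, mul_comm (α k : A), ic_mul]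
      split_ifs with h
      · rw [h, mul_zero, ic, map_zero, mul_zero, map_zero, mul_one, sub_self]
      · rw [inv_mul_cancel₀ h, ic, map_one, mul_zero, map_zero, sub_zero, mul_one]
        refine congrArg (fun z => monomial z _) (Finsupp.ext fun a => ?_)
        simp only [Finsupp.add_apply, Finsupp.tsub_apply, Finsupp.single_apply]
        split_ifs with ha
        · subst ha; omega
        · omega

variable [PerfectRing A p]

/-- The condition of a degree of a monomial of the form `(x^γ)^p x_i^(p-1)`. -/
def Top (i : Fin n) (α : Fin n →₀ ℕ) : Prop := ∀ k, (α k : ZMod p) + (if k = i then 1 else 0) = 0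

open scoped Classical in
/-- The Cartier map on polynomials, in the `i`th coordinate. -/
noncomputable def T (i : Fin n) : P →+ P :=
  ((MvPolynomial.map (frobeniusEquiv A p).symm.toRingHom).toAddMonoidHom).comp
    (op (fun α => α.mapRange (· / p) (Nat.zero_div p)) fun α => if Top p i α then 1 else 0).toAddMonoidHom

open scoped Classical in
theorem T_monomial (i : Fin n) (α : Fin n →₀ ℕ) (c : A) :
    T p i (monomial α c) =
      if Top p i α then monomial (α.mapRange (· / p) (Nat.zero_div p)) ((frobeniusEquiv A p).symm c) else 0 := by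
  rw [T, AddMonoidHom.comp_apply, LinearMap.toAddMonoidHom_coe, op_monomial,
    RingHom.toAddMonoidHom_eq_coe, AddMonoidHom.coe_coe, map_monomial]
  split_ifs <;> simp

theorem T_pow_mul (i : Fin n) (u v : P) : T p i (u ^ p * v) = u * T p i v := by
  induction u using MvPolynomial.induction_on' with
  | add f g hf hg => rw [add_pow_p, add_mul, map_add, hf, hg, add_mul]
  | monomial γ c =>
    induction v using MvPolynomial.induction_on' with
    | add f g hf hg => rw [mul_add, map_add, hf, hg, map_add, mul_add]
    | monomial α e =>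
      classical
      have hiff : Top p i (p • γ + α) ↔ Top p i α := by
        unfold Top
        simp only [add_comm (p • γ), natCast_periodic]
      rw [monomial_pow_p, monomial_mul, T_monomial, T_monomial]
      simp only [hiff]
      split_ifs
      · rw [monomial_mul, map_mul, frobeniusEquiv_symm_apply_frobenius' p c]
        refine congrArg (fun z => monomial z _) (Finsupp.ext fun k => ?_)
        simp only [Finsupp.mapRange_apply, Finsupp.add_apply, Finsupp.smul_apply, smul_eq_mul]
        exact Nat.mul_add_div hp.out.pos _ _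
      · rw [mul_zero]
where
  frobeniusEquiv_symm_apply_frobenius' (p : ℕ) [Fact p.Prime] [CharP A p] [PerfectRing A p] (c : A) :
      (frobeniusEquiv A p).symm (c ^ p) = c := by
    rw [RingEquiv.symm_apply_eq]; rfl

theorem T_mem {i : Fin n} {I : Ideal P} {x : P} (hx : x ∈ frobIdeal p I) : T p i x ∈ I := by
  suffices ∀ v : P, T p i (x * v) ∈ I by simpa using this 1
  induction hx using Submodule.span_induction with
  | mem y hy =>
    obtain ⟨u, hu, rfl⟩ := hy
    intro v
    rw [T_pow_mul]
    exact Ideal.mul_mem_right _ _ hu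
  | zero => intro v; simp
  | add y z _ _ hy hz => intro v; rw [add_mul, map_add]; exact add_mem (hy v) (hz v)
  | smul c y _ hy => intro v; rw [smul_eq_mul, mul_comm c, mul_assoc]; exact hy _

theorem T_pderiv (i : Fin n) (g : P) : T p i (pderiv i g) = 0 := by
  induction g using MvPolynomial.induction_on' with
  | add f g hf hg => simp only [map_add, hf, hg, add_zero]
  | monomial α c =>
    classical
    rw [pderiv_monomial, T_monomial]
    split_ifs with h
    swap
    · rfl
    by_cases h0 : α i = 0
    · simp [h0]
    · have h1 := h i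
      rw [if_pos rfl, Finsupp.tsub_apply, Finsupp.single_eq_same, Nat.cast_sub (by omega), Nat.cast_one,
        sub_add_cancel] at h1
      rw [show (α i : A) = 0 by rw [← ic_natCast p, h1, ic, map_zero], mul_zero, map_zero, map_zero]

/-- The Cartier map takes `Y^(p-1) dY` to `dY`. -/
theorem T_pow_pred_mul_pderiv (i : Fin n) (Y : P) : T p i (Y ^ (p - 1) * pderiv i Y) = pderiv i Y := by
  induction Y using MvPolynomial.induction_on' with
  | add f g hf hg =>
    obtain ⟨t, ht⟩ := exists_eq_add_pow_pred p (pderiv (R := A) i : Derivation A P P) f g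
    have h := congrArg (T p i) ht
    simp only [T_pderiv, map_sub, smul_eq_mul] at h
    rw [eq_comm, sub_sub, sub_eq_zero] at h
    rw [h, hf, hg, map_add]
  | monomial α c =>
    classical
    have hp1 : p - 1 + 1 = p := Nat.sub_add_cancel hp.out.one_le
    rw [pderiv_monomial, monomial_pow, monomial_mul, T_monomial, ← mul_assoc, ← pow_succ, hp1]
    by_cases h0 : (α i : A) = 0
    · rw [h0, mul_zero, map_zero, map_zero, mul_zero, map_zero]; exact ite_self _
    have hi : α i ≠ 0 := fun h => h0 (by rw [h, Nat.cast_zero])
    have he : ((p - 1) • α + (α - Finsupp.single i 1)) = p • α - Finsupp.single i 1 := by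
      ext k
      simp only [Finsupp.add_apply, Finsupp.smul_apply, smul_eq_mul, Finsupp.tsub_apply, Finsupp.single_apply]
      have : p * α k = (p - 1) * α k + α k := by
        rw [Nat.sub_mul, one_mul, Nat.sub_add_cancel (Nat.le_mul_of_pos_left _ hp.out.pos)]
      split_ifs with hk
      · subst hk; omega
      · omega
    rw [he, if_pos]
    · refine congrArg₂ (fun z e => monomial z e) (Finsupp.ext fun k => ?_) ?_
      · simp only [Finsupp.mapRange_apply, Finsupp.smul_apply, smul_eq_mul, Finsupp.tsub_apply,
          Finsupp.single_apply]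
        have h2 := hp.out.two_le
        split_ifs with hk
        · subst hk
          obtain ⟨m, hm⟩ := Nat.exists_eq_succ_of_ne_zero hi
          rw [hm, Nat.mul_succ, Nat.succ_eq_add_one, Nat.add_sub_cancel,
            show p * m + p - 1 = p * m + (p - 1) by omega, Nat.mul_add_div hp.out.pos,
            Nat.div_eq_of_lt (by omega), add_zero]
        · rw [Nat.sub_zero, Nat.sub_zero, Nat.mul_div_cancel_left _ hp.out.pos]
      · rw [map_mul, map_natCast, (RingEquiv.symm_apply_eq _).2 (show c ^ p = frobeniusEquiv A p c from rfl)]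
    · intro k
      simp only [Finsupp.smul_apply, smul_eq_mul, Finsupp.tsub_apply, Finsupp.single_apply]
      by_cases hk : k = i
      · subst hk
        rw [if_pos rfl, if_pos rfl, Nat.cast_sub (Nat.one_le_iff_ne_zero.2 (mul_ne_zero hp.out.ne_zero hi))]
        simp
      · simp [hk, Ne.symm hk]

/-- The Cartier decomposition modulo the ideal of `p`-th powers. -/
theorem exists_decomposition (I : Ideal P) (c : Fin n → P)
    (hc : ∀ i k, pderiv i (c k) - pderiv k (c i) ∈ frobIdeal p I) :
    ∃ (h : P) (b : Fin n → P), ∀ k, c k - pderiv k h - b k ^ p * X k ^ (p - 1) ∈ frobIdeal p I := by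
  classical
  set J := frobIdeal p I
  have step : ∀ s : Finset (Fin n), ∃ h : P, ∀ i ∈ s,
      (c i - pderiv i h) - R p i (c i - pderiv i h) ∈ J := by
    intro s
    induction s using Finset.induction_on with
    | empty => exact ⟨0, by simp⟩
    | insert l s hl ih =>
      obtain ⟨h, hh⟩ := ih
      refine ⟨h + S p l (c l - pderiv l h), fun i hi => ?_⟩
      obtain ⟨c', hc'⟩ : ∃ c' : Fin n → P, ∀ j, c' j = c j - pderiv j h := ⟨_, fun _ => rfl⟩
      simp only [← hc'] at hh ⊢
      have hclosed : ∀ a b, pderiv a (c' b) - pderiv b (c' a) ∈ J := fun a b => by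
        simp only [hc', map_sub, pderiv_comm a b h]
        simpa using hc a b
      rw [show ∀ j, c j - pderiv j (h + S p l (c' l)) = c' j - pderiv j (S p l (c' l)) from fun j => by
        simp only [hc', map_add]; abel]
      rcases Finset.mem_insert.1 hi with rfl | hi
      · rw [pderiv_S, sub_sub_cancel, R_R, sub_self]; exact J.zero_mem
      · have hil : i ≠ l := fun e => hl (e ▸ hi)
        have h1 : pderiv l (c' i) ∈ J := by
          have e1 := R_mem p i (hclosed l i)
          rw [map_sub, R_pderiv, sub_zero, ← pderiv_R_comm p (Ne.symm hil)] at e1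
          have e2 := pderiv_mem_frobIdeal p l (hh i hi)
          rw [map_sub] at e2
          simpa using add_mem e2 e1
        have h2 : S p l (pderiv i (c' l)) ∈ J := S_mem p l (by simpa using add_mem (hclosed i l) h1)
        rw [pderiv_S_comm p hil, map_sub, sub_sub_sub_comm]
        exact sub_mem (hh i hi) (sub_mem h2 (R_mem p i h2))
  obtain ⟨h, hh⟩ := step Finset.univ
  refine ⟨h, fun k => T p k (c k - pderiv k h), fun k => ?_⟩
  show c k - pderiv k h - _ ∈ J
  obtain ⟨g, hgdef⟩ : ∃ g, g = c k - pderiv k h := ⟨_, rfl⟩
  have hhk : g - R p k g ∈ J := hgdef ▸ hh k (Finset.mem_univ k)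
  rw [← hgdef]
  have hg : ∀ j, j ≠ k → g - Z p j g ∈ J := fun j hj => by
    rw [← S_pderiv]
    refine S_mem p j ?_
    have hcl : pderiv j g - pderiv k (c j - pderiv j h) ∈ J := by
      simp only [hgdef, map_sub, pderiv_comm j k h]
      simpa using hc j k
    have e1 := R_mem p k hcl
    rw [map_sub, R_pderiv, sub_zero, ← pderiv_R_comm p hj] at e1
    have e2 := pderiv_mem_frobIdeal p j hhk
    rw [map_sub] at e2
    simpa using add_mem e2 e1
  let ε : Finset (Fin n) → (Fin n →₀ ℕ) → A := fun s α =>
    if ∀ j ∈ s, (α j : ZMod p) + (if j = k then 1 else 0) = 0 then 1 else 0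
  have hε : ∀ s, ∀ α γ, ε s (α + p • γ) = ε s α := fun s α γ => by
    simp only [ε, natCast_periodic]
  have hall : ∀ s : Finset (Fin n), g - op id (ε s) g ∈ J := by
    intro s
    induction s using Finset.induction_on with
    | empty =>
      have : (op id (ε ∅) : P →ₗ[A] P) = LinearMap.id := (basisMonomials (Fin n) A).ext fun α => by
        rw [coe_basisMonomials, op_monomial]; simp [ε]
      rw [this, LinearMap.id_apply, sub_self]; exact J.zero_mem
    | insert j s hj ih =>
      let L : P →ₗ[A] P := op id fun α =>
        if (α j : ZMod p) + (if j = k then 1 else 0) = 0 then 1 else 0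
      have hL : g - L g ∈ J := by
        by_cases hjk : j = k
        · subst hjk
          simpa [L, R] using hhk
        · simpa [L, Z, hjk] using hg j hjk
      have hcomp : op id (ε (insert j s)) g = op id (ε s) (L g) := by
        change _ = ((op id (ε s)).comp L) g
        congr 1
        refine (basisMonomials (Fin n) A).ext fun α => ?_
        rw [coe_basisMonomials, LinearMap.comp_apply]
        simp only [L, op_monomial, ε, id, Finset.forall_mem_insert]
        split_ifs <;> simp_all
      have hm : op id (ε s) (g - L g) ∈ J :=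
        mem_frobIdeal_of_linear p (φ := (op id (ε s)).toAddMonoidHom)
          (op_pow_mul p _ _ (fun _ _ => rfl) (hε s)) hL
      rw [map_sub] at hm
      rw [hcomp]
      simpa using add_mem ih hm
  have hfin : op id (ε Finset.univ) g = T p k g ^ p * X k ^ (p - 1) := by
    clear hg hall hhk hgdef
    induction g using MvPolynomial.induction_on' with
    | add f₁ f₂ h₁ h₂ => rw [map_add, map_add, h₁, h₂, add_pow_p, add_mul]
    | monomial α e =>
      rw [op_monomial, T_monomial, id]
      simp only [ε, Finset.mem_univ, forall_true_left]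
      split_ifs with h1 h2 h2
      · rw [monomial_pow_p, X_pow_eq_monomial, monomial_mul, frobeniusEquiv_symm_pow_p, mul_one]
        refine congrArg (fun z => monomial z _) (Finsupp.ext fun a => ?_)
        simp only [Finsupp.add_apply, Finsupp.smul_apply, smul_eq_mul, Finsupp.mapRange_apply,
          Finsupp.single_apply]
        have hd := Nat.div_add_mod (α a) p
        have h2' := hp.out.two_le
        have hz := h1 a
        by_cases ha : a = k
        · subst ha
          rw [if_pos rfl, ← Nat.cast_one, ← Nat.cast_add, ZMod.natCast_eq_zero_iff] at hz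
          rw [if_pos rfl]
          obtain ⟨m, hm⟩ := hz
          obtain ⟨m', rfl⟩ : ∃ m', m = m' + 1 := ⟨m - 1, by rcases m with _ | m <;> simp_all⟩
          rw [Nat.mul_succ] at hm
          have hlt := Nat.mod_lt (α a) hp.out.pos
          have : α a % p = p - 1 := by
            rw [show α a = p * m' + (p - 1) by omega, Nat.mul_add_mod, Nat.mod_eq_of_lt (by omega)]
          omega
        · rw [if_neg ha, add_zero, ZMod.natCast_eq_zero_iff] at hz
          rw [if_neg (Ne.symm ha), add_zero, Nat.mul_div_cancel' hz]
      · exact absurd h1 h2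
      · exact absurd h2 h1
      · rw [zero_pow hp.out.ne_zero, zero_mul, mul_zero, map_zero]
  have := hall Finset.univ
  rw [hfin, hgdef] at this
  simpa only [hgdef] using this

end Groth.Agent.DR29.CartierPoly
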