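import Groth.Agent.DR29.CartierPoly
import Groth.Agent.DR29.Basic
import Mathlib.RingTheory.Smooth.Basic
import Mathlib.RingTheory.Kaehler.Basic
import Mathlib.RingTheory.FinitePresentation
import Mathlib.RingTheory.Finiteness.Ideal
import Mathlib.LinearAlgebra.Multilinear.Basic
import Mathlib.LinearAlgebra.Alternating.Basic

/-! The inverse Cartier operator on one-forms of a smooth algebra over a perfect ring. -/

set_option autoImplicit false

universe u

open exteriorPower MvPolynomial
open Groth.Agent.DR29.CartierPoly (frobIdeal)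

namespace Groth.Agent.DR29.CartierSmooth

variable (p : ℕ) [hp : Fact p.Prime] {A B : Type u} [CommRing A] [CommRing B] [Algebra A B]

section Phi

variable [CharP B p]

theorem pow_smul_D_mem (b h : B) :
    (b ^ p) • KaehlerDifferential.D A B h ∈
      (KaehlerDifferential.D A B).toLinearMap.toAddMonoidHom.range := by
  refine ⟨b ^ p * h, ?_⟩
  show KaehlerDifferential.D A B (b ^ p * h) = _
  rw [Derivation.leibniz, Derivation.leibniz_pow, ← Nat.cast_smul_eq_nsmul B, CharP.cast_eq_zero,
    zero_smul, smul_zero, add_zero]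

/-- The inverse Cartier operator `f dg ↦ f^p g^(p-1) dg` modulo exact forms. -/
theorem exists_phi :
    ∃ Φ : Ω[B⁄A] →+ Ω[B⁄A] ⧸ (KaehlerDifferential.D A B).toLinearMap.toAddMonoidHom.range,
      (∀ (b : B) (η ω : Ω[B⁄A]), Φ η = QuotientAddGroup.mk ω →
        Φ (b • η) = QuotientAddGroup.mk (b ^ p • ω)) ∧
      ∀ g : B, Φ (KaehlerDifferential.D A B g) =
        QuotientAddGroup.mk (g ^ (p - 1) • KaehlerDifferential.D A B g) := by
  set E := (KaehlerDifferential.D A B).toLinearMap.toAddMonoidHom.range
  let H := Ω[B⁄A] ⧸ E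
  let f : B → (H →+ H) := fun b => QuotientAddGroup.map E E
    (DistribSMul.toAddMonoidHom (Ω[B⁄A]) (b ^ p)) (by
      rintro _ ⟨h, rfl⟩
      exact pow_smul_D_mem p b h)
  have hf : ∀ b (ω : Ω[B⁄A]), f b (QuotientAddGroup.mk ω) = QuotientAddGroup.mk (b ^ p • ω) :=
    fun b ω => rfl
  letI actB : Module B H :=
    { smul := fun b x => f b x
      one_smul := fun x => QuotientAddGroup.induction_on x fun ω => by
        show f 1 _ = _; rw [hf, one_pow, one_smul]
      mul_smul := fun b c x => QuotientAddGroup.induction_on x fun ω => by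
        show f (b * c) _ = f b (f c _); rw [hf, hf, hf, mul_pow, mul_smul]
      smul_zero := fun b => map_zero (f b)
      smul_add := fun b x y => map_add (f b) x y
      add_smul := fun b c x => QuotientAddGroup.induction_on x fun ω => by
        show f (b + c) _ = f b _ + f c _
        rw [hf, hf, hf, add_pow_char b c p, add_smul, QuotientAddGroup.mk_add]
      zero_smul := fun x => QuotientAddGroup.induction_on x fun ω => by
        show f 0 _ = 0; rw [hf, zero_pow hp.out.ne_zero, zero_smul, QuotientAddGroup.mk_zero] }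
  letI actA : Module A H := Module.compHom H (algebraMap A B)
  haveI : IsScalarTower A B H := ⟨fun a b x => by
    rw [Algebra.smul_def, mul_smul]; rfl⟩
  let D' : Derivation A B H := Derivation.mk'
    { toFun := fun g => QuotientAddGroup.mk (g ^ (p - 1) • KaehlerDifferential.D A B g)
      map_add' := fun g h => by
        obtain ⟨t, ht⟩ := CartierPoly.exists_eq_add_pow_pred p (KaehlerDifferential.D A B) g h
        rw [← QuotientAddGroup.mk_add, eq_comm, QuotientAddGroup.eq]
        refine ⟨t, ?_⟩
        show KaehlerDifferential.D A B t = _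
        rw [ht]; abel
      map_smul' := fun a g => by
        show _ = f (algebraMap A B a) _
        rw [hf, Derivation.map_smul, smul_pow, ← algebraMap_smul B (a ^ (p - 1)) (g ^ (p - 1)), smul_eq_mul,
          ← algebraMap_smul B a (KaehlerDifferential.D A B g), smul_smul, smul_smul, map_pow,
          mul_right_comm, ← pow_succ, Nat.sub_add_cancel hp.out.one_le] }
    fun g h => by
      show QuotientAddGroup.mk _ = f g (QuotientAddGroup.mk _) + f h (QuotientAddGroup.mk _)
      rw [hf, hf, ← QuotientAddGroup.mk_add, Derivation.leibniz, smul_add, smul_smul, smul_smul, smul_smul,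
        smul_smul]
      have hpow : ∀ x : B, x ^ p = x ^ (p - 1) * x := fun x => by
        rw [← pow_succ, Nat.sub_add_cancel hp.out.one_le]
      congr 2 <;> congr 1 <;> rw [mul_pow, hpow] <;> ring
  refine ⟨D'.liftKaehlerDifferential.toAddMonoidHom, fun b η ω h => ?_, fun g => ?_⟩
  · show D'.liftKaehlerDifferential (b • η) = _
    rw [map_smul, show D'.liftKaehlerDifferential η = _ from h]
    exact hf b ω
  · exact D'.liftKaehlerDifferential_comp_D g

end Phi

variable [CharP A p] [PerfectRing A p] [Algebra.Smooth A B] [CharP B p]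
  {d : ∀ q : ℕ, ↥(⋀[B]^q (Ω[B⁄A])) →ₗ[A] ↥(⋀[B]^(q + 1) (Ω[B⁄A]))}

/-- The Cartier isomorphism in degree one. -/
theorem main (hd : DeRham.IsDiff (KaehlerDifferential.D A B) d)
    {Φ : Ω[B⁄A] →+ Ω[B⁄A] ⧸ (KaehlerDifferential.D A B).toLinearMap.toAddMonoidHom.range}
    (hΦ : ∀ (b : B) (η ω : Ω[B⁄A]), Φ η = QuotientAddGroup.mk ω →
      Φ (b • η) = QuotientAddGroup.mk (b ^ p • ω))
    (hΦD : ∀ g : B, Φ (KaehlerDifferential.D A B g) =
      QuotientAddGroup.mk (g ^ (p - 1) • KaehlerDifferential.D A B g)) :
    Function.Injective Φ ∧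
    ∀ ω : Ω[B⁄A], d 1 ((oneEquiv B (Ω[B⁄A])).symm ω) = 0 →
      ∃ (n : ℕ) (h : B) (b x : Fin n → B), ω = KaehlerDifferential.D A B h +
        ∑ k, b k ^ p • x k ^ (p - 1) • KaehlerDifferential.D A B (x k) := by
  obtain ⟨n, π, hπ, hfg⟩ := Algebra.FinitePresentation.out (R := A) (A := B)
  set I : Ideal (MvPolynomial (Fin n) A) := RingHom.ker π.toRingHom with hI
  set J : Ideal (MvPolynomial (Fin n) A) := frobIdeal p I with hJ
  have hJI : J ≤ I := CartierPoly.frobIdeal_le p I
  let r : MvPolynomial (Fin n) A ⧸ J →ₐ[A] B := Ideal.Quotient.liftₐ J π fun u hu => hJI hu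
  have hr : ∀ u, r (Ideal.Quotient.mk J u) = π u := fun u => rfl
  have hr' : Function.Surjective r := fun b => by
    obtain ⟨u, rfl⟩ := hπ b
    exact ⟨_, hr u⟩
  have hnil : IsNilpotent (RingHom.ker (r : MvPolynomial (Fin n) A ⧸ J →+* B)) := by
    obtain ⟨N, hN⟩ := Ideal.exists_pow_le_of_le_radical_of_fg (I := I) (J := J)
      (fun u hu => ⟨p, Ideal.subset_span ⟨u, hu, rfl⟩⟩) hfg
    refine ⟨N, ?_⟩
    rw [Ideal.zero_eq_bot, ← le_bot_iff]
    have hker : RingHom.ker (r : MvPolynomial (Fin n) A ⧸ J →+* B) ≤ I.map (Ideal.Quotient.mk J) := by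
      intro q hq
      obtain ⟨u, rfl⟩ := Ideal.Quotient.mk_surjective q
      exact Ideal.mem_map_of_mem _ (show π u = 0 from hq)
    refine (Ideal.pow_right_mono hker N).trans ?_
    rw [← Ideal.map_pow]
    exact (Ideal.map_mono hN).trans (by rw [Ideal.map_quotient_self])
  let s : B →ₐ[A] MvPolynomial (Fin n) A ⧸ J :=
    Algebra.FormallySmooth.liftOfSurjective (AlgHom.id A B) r hr' hnil
  have hs : ∀ b, r (s b) = b := Algebra.FormallySmooth.liftOfSurjective_apply _ r hr' hnil
  obtain ⟨L, hL⟩ : ∃ L : B → MvPolynomial (Fin n) A, ∀ b, Ideal.Quotient.mk J (L b) = s b :=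
    ⟨fun b => (Ideal.Quotient.mk_surjective (s b)).choose,
      fun b => (Ideal.Quotient.mk_surjective (s b)).choose_spec⟩
  have hπL : ∀ b, π (L b) = b := fun b => by rw [← hr, hL, hs]
  have hmk : ∀ (i : Fin n) u v, Ideal.Quotient.mk J u = Ideal.Quotient.mk J v →
      Ideal.Quotient.mk J (pderiv i u) = Ideal.Quotient.mk J (pderiv i v) := fun i u v h => by
    rw [Ideal.Quotient.eq] at h ⊢
    rw [← map_sub]
    exact CartierPoly.pderiv_mem_frobIdeal p i h
  letI : Algebra B (MvPolynomial (Fin n) A ⧸ J) := s.toRingHom.toAlgebra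
  haveI : IsScalarTower A B (MvPolynomial (Fin n) A ⧸ J) :=
    IsScalarTower.of_algebraMap_eq fun x => (s.commutes x).symm
  have hsm : ∀ (b : B) (q : MvPolynomial (Fin n) A ⧸ J), b • q = s b * q := fun b q => Algebra.smul_def b q
  let D' : Fin n → Derivation A B (MvPolynomial (Fin n) A ⧸ J) := fun i => Derivation.mk'
    { toFun := fun g => Ideal.Quotient.mk J (pderiv i (L g))
      map_add' := fun g h => by
        rw [hmk i (L (g + h)) (L g + L h) (by rw [map_add, hL, hL, hL, map_add]), map_add, map_add]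
      map_smul' := fun c g => by
        rw [hmk i (L (c • g)) (c • L g) (by
          rw [hL, map_smul, ← hL]; rfl), Derivation.map_smul, RingHom.id_apply]
        rfl }
    fun g h => by
      show Ideal.Quotient.mk J (pderiv i (L (g * h))) =
        g • Ideal.Quotient.mk J (pderiv i (L h)) + h • Ideal.Quotient.mk J (pderiv i (L g))
      rw [hmk i (L (g * h)) (L g * L h) (by rw [map_mul, hL, hL, hL, map_mul]), pderiv_mul, hsm, hsm,
        ← hL g, ← hL h, ← map_mul, ← map_mul, ← map_add]
      congr 1; ring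
  let a : Fin n → Ω[B⁄A] →ₗ[B] MvPolynomial (Fin n) A ⧸ J := fun i => (D' i).liftKaehlerDifferential
  have ha : ∀ i g, a i (KaehlerDifferential.D A B g) = Ideal.Quotient.mk J (pderiv i (L g)) :=
    fun i g => (D' i).liftKaehlerDifferential_comp_D g
  have hchain : ∀ u : MvPolynomial (Fin n) A, KaehlerDifferential.D A B (π u) =
      ∑ i, π (pderiv i u) • KaehlerDifferential.D A B (π (X i)) := by
    intro u
    induction u using MvPolynomial.induction_on with
    | C c => simp [show π (C c) = algebraMap A B c from π.commutes c]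
    | add f g hf hg => simp only [map_add, hf, hg, add_smul, Finset.sum_add_distrib]
    | mul_X f j hf =>
      classical
      rw [map_mul, Derivation.leibniz, hf, Finset.smul_sum]
      simp only [pderiv_mul, map_add, map_mul, add_smul, Finset.sum_add_distrib, smul_smul]
      rw [add_comm]
      congr 1
      · exact Finset.sum_congr rfl fun i _ => by rw [mul_comm]
      · rw [Finset.sum_eq_single j]
        · simp
        · intro i _ hij; simp [hij]
        · simp
  have hcoord : ∀ η : Ω[B⁄A], η = ∑ i, r (a i η) • KaehlerDifferential.D A B (π (X i)) := by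
    intro η
    have hη : η ∈ Submodule.span B (Set.range (KaehlerDifferential.D A B)) := by
      rw [KaehlerDifferential.span_range_derivation]; trivial
    induction hη using Submodule.span_induction with
    | mem y hy =>
      obtain ⟨g, rfl⟩ := hy
      simp only [ha, hr, ← hchain, hπL]
    | zero => simp
    | add y z _ _ hy hz =>
      simp only [map_add, add_smul, Finset.sum_add_distrib, ← hy, ← hz]
    | smul c y _ hy =>
      simp only [map_smul, hsm, map_mul, hs, mul_smul, ← Finset.smul_sum, ← hy]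
  constructor
  · rw [injective_iff_map_eq_zero]
    intro η hη
    let b : Fin n → B := fun j => r (a j η)
    have hb : η = ∑ j, b j • KaehlerDifferential.D A B (π (X j)) := hcoord η
    have h1 : Φ η = QuotientAddGroup.mk
        (∑ j, b j ^ p • π (X j) ^ (p - 1) • KaehlerDifferential.D A B (π (X j))) := by
      conv_lhs => rw [hb]
      rw [map_sum, QuotientAddGroup.mk_sum]
      exact Finset.sum_congr rfl fun j _ => hΦ _ _ _ (hΦD _)
    obtain ⟨h, hh⟩ := (QuotientAddGroup.eq_zero_iff _).1 (h1.symm.trans hη)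
    rw [hcoord η]
    refine Finset.sum_eq_zero fun i _ => ?_
    let G : Fin n → MvPolynomial (Fin n) A := fun j => L (b j)
    let Y : Fin n → MvPolynomial (Fin n) A := fun j => L (π (X j))
    have hmem : pderiv i (L h) - ∑ j, G j ^ p * (Y j ^ (p - 1) * pderiv i (Y j)) ∈ J := by
      rw [← Ideal.Quotient.eq, ← ha, map_sum]
      rw [show KaehlerDifferential.D A B h =
        ∑ j, b j ^ p • π (X j) ^ (p - 1) • KaehlerDifferential.D A B (π (X j)) from hh, map_sum]
      refine Finset.sum_congr rfl fun j _ => ?_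
      simp only [map_smul, ha, hsm, map_mul, map_pow, hL, G, Y]
    have hT := CartierPoly.T_mem p (i := i) hmem
    simp only [map_sub, map_sum, CartierPoly.T_pderiv, CartierPoly.T_pow_mul,
      CartierPoly.T_pow_pred_mul_pderiv, zero_sub, neg_mem_iff] at hT
    have h0 : r (a i η) = π (∑ j, G j * pderiv i (Y j)) := by
      conv_lhs => rw [hb]
      rw [map_sum, map_sum, map_sum]
      refine Finset.sum_congr rfl fun j _ => ?_
      rw [map_smul, ha, hsm, map_mul, hs, hr, map_mul, hπL]
    rw [h0, show π (∑ j, G j * pderiv i (Y j)) = 0 from hT, zero_smul]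
  intro ω hω
  choose c hc using fun j => Ideal.Quotient.mk_surjective (a j ω)
  have hclosed : ∀ i k, pderiv i (c k) - pderiv k (c i) ∈ J := by
    intro i k
    let m : MultilinearMap B (fun _ : Fin 2 => Ω[B⁄A]) (MvPolynomial (Fin n) A ⧸ J) :=
      (MultilinearMap.mkPiAlgebra B (Fin 2) (MvPolynomial (Fin n) A ⧸ J)).compLinearMap ![a i, a k] -
        (MultilinearMap.mkPiAlgebra B (Fin 2) (MvPolynomial (Fin n) A ⧸ J)).compLinearMap ![a k, a i]
    have hm : ∀ v, m v = a i (v 0) * a k (v 1) - a k (v 0) * a i (v 1) := fun v => by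
      simp [m, Fin.prod_univ_two]
    let φ : Ω[B⁄A] [⋀^Fin 2]→ₗ[B] (MvPolynomial (Fin n) A ⧸ J) :=
      { m with
        map_eq_zero_of_eq' := fun v x y hxy hne => by
          show m v = 0
          have h01 : v 0 = v 1 := by
            fin_cases x <;> fin_cases y <;> first | exact absurd rfl hne | exact hxy | exact hxy.symm
          rw [hm, h01]; ring }
    suffices ∀ (y : ↥(⋀[B]^1 (Ω[B⁄A]))) (ck ci : MvPolynomial (Fin n) A),
        Ideal.Quotient.mk J ck = a k (oneEquiv B _ y) → Ideal.Quotient.mk J ci = a i (oneEquiv B _ y) →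
        Ideal.Quotient.mk J (pderiv i ck - pderiv k ci) = alternatingMapLinearEquiv φ (d 1 y) by
      rw [← Ideal.Quotient.eq_zero_iff_mem,
        this ((oneEquiv B _).symm ω) (c k) (c i) (by rw [LinearEquiv.apply_symm_apply, hc])
          (by rw [LinearEquiv.apply_symm_apply, hc]), hω, map_zero]
    intro y
    induction y using DR29.induction_gen (δ := KaehlerDifferential.D A B) (DR29.span_kaehler A B) with
    | h0 =>
      intro ck ci hk hi
      rw [map_sub, hmk i ck 0 (by rw [hk]; simp), hmk k ci 0 (by rw [hi]; simp)]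
      simp
    | hadd y z hy hz =>
      intro ck ci hk hi
      obtain ⟨ck₁, hk₁⟩ := Ideal.Quotient.mk_surjective (a k (oneEquiv B _ y))
      obtain ⟨ci₁, hi₁⟩ := Ideal.Quotient.mk_surjective (a i (oneEquiv B _ y))
      obtain ⟨ck₂, hk₂⟩ := Ideal.Quotient.mk_surjective (a k (oneEquiv B _ z))
      obtain ⟨ci₂, hi₂⟩ := Ideal.Quotient.mk_surjective (a i (oneEquiv B _ z))
      rw [map_add, map_add, ← hy ck₁ ci₁ hk₁ hi₁, ← hz ck₂ ci₂ hk₂ hi₂, map_sub,
        hmk i ck (ck₁ + ck₂) (by rw [hk, map_add, map_add, map_add, hk₁, hk₂]),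
        hmk k ci (ci₁ + ci₂) (by rw [hi, map_add, map_add, map_add, hi₁, hi₂])]
      simp only [map_add, map_sub]
      abel
    | hgen b₀ v =>
      intro ck ci hk hi
      have hone : oneEquiv B _ (DeRham.gen (KaehlerDifferential.D A B) 1 b₀ v) =
          b₀ • KaehlerDifferential.D A B (v 0) := by
        rw [DeRham.gen, map_smul, oneEquiv_ιMulti]
      rw [hone, map_smul, ha, hsm, ← hL, ← map_mul] at hk hi
      rw [hd.1, alternatingMapLinearEquiv_apply_ιMulti,
        show φ (Fin.cons (KaehlerDifferential.D A B b₀) fun x => KaehlerDifferential.D A B (v x)) =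
          m (Fin.cons (KaehlerDifferential.D A B b₀) fun x => KaehlerDifferential.D A B (v x)) from rfl,
        hm, map_sub, hmk i _ _ hk, hmk k _ _ hi]
      simp only [Fin.cons_zero, Fin.cons_one, ha, pderiv_mul, map_add, map_mul,
        CartierPoly.pderiv_comm i k]
      abel
  obtain ⟨h, b, hb⟩ := CartierPoly.exists_decomposition p I c hclosed
  refine ⟨n, π h, fun k => π (b k), fun k => π (X k), ?_⟩
  conv_lhs => rw [hcoord ω]
  rw [hchain h, ← Finset.sum_add_distrib]
  refine Finset.sum_congr rfl fun k _ => ?_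
  rw [← hc k, hr, smul_smul, ← add_smul]
  congr 1
  have h0 : π (c k - pderiv k h - b k ^ p * X k ^ (p - 1)) = 0 := hJI (hb k)
  rw [map_sub, map_sub, map_mul, map_pow, map_pow, sub_sub, sub_eq_zero] at h0
  exact h0

end Groth.Agent.DR29.CartierSmooth
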