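import Groth.Agent.DR29.Basic

/-! Maps of de Rham complexes between general receptacles. -/

set_option autoImplicit false

universe v v' u

open exteriorPower

namespace Groth.Agent.DR29

theorem exists_isCxMap_of_linear {R : Type v} {R' : Type v'} {A M A' M' : Type u}
    [CommRing R] [CommRing A] [Algebra R A] [AddCommGroup M] [Module A M] [Module R M]
    [CommRing R'] [CommRing A'] [Algebra R' A'] [AddCommGroup M'] [Module A' M'] [Module R' M']
    [Algebra A A'] [Module A M'] [IsScalarTower A A' M']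
    (δ : Derivation R A M) (δ' : Derivation R' A' M') (f : M →ₗ[A] M')
    (hf : ∀ a, f (δ a) = δ' (algebraMap A A' a)) :
    ∃ ψ : ∀ p : ℕ, ↥(⋀[A]^p M) →+ ↥(⋀[A']^p M'),
      DeRham.IsCxMap δ δ' (algebraMap A A') ψ := by
  let alt : (p : ℕ) → M' [⋀^Fin p]→ₗ[A] ↥(⋀[A']^p M') := fun p =>
    { (ιMulti A' p (M := M')).toMultilinearMap.restrictScalars A with
      map_eq_zero_of_eq' := fun v i j h hij => (ιMulti A' p).map_eq_zero_of_eq v h hij }
  let L : (p : ℕ) → ↥(⋀[A]^p M) →ₗ[A] ↥(⋀[A']^p M') := fun p =>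
    alternatingMapLinearEquiv ((alt p).compLinearMap f)
  refine ⟨fun p => (L p).toAddMonoidHom, fun p b₀ b => ?_⟩
  show L p (b₀ • ιMulti A p _) = _
  rw [map_smul, alternatingMapLinearEquiv_apply_ιMulti, DeRham.gen, algebraMap_smul]
  show b₀ • ιMulti A' p _ = _
  congr 2
  funext i
  exact hf (b i)

end Groth.Agent.DR29
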