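import Groth.Agent.DR29.Quotient
import Mathlib.LinearAlgebra.ExteriorAlgebra.Grading
import Mathlib.LinearAlgebra.CliffordAlgebra.Contraction

/-! Elimination of one variable from closed forms: the algebraic Poincare lemma. -/

set_option autoImplicit false

universe v u

open exteriorPower

namespace Groth.Agent.DR29

section Ops

variable {A M : Type u} [CommRing A] [AddCommGroup M] [Module A M]

/-- Left wedge by a vector. -/
noncomputable def wedge (v : M) (q : ℕ) : ↥(⋀[A]^q M) →ₗ[A] ↥(⋀[A]^(q + 1) M) :=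
  LinearMap.codRestrict _
    ((LinearMap.mulLeft A (ExteriorAlgebra.ι A v)).comp (⋀[A]^q M).subtype)
    fun x => by
      show ExteriorAlgebra.ι A v * (x : ExteriorAlgebra A M) ∈
        LinearMap.range (ExteriorAlgebra.ι A (M := M)) ^ (q + 1)
      rw [pow_succ']
      exact Submodule.mul_mem_mul (LinearMap.mem_range_self _ v) x.2

theorem coe_wedge (v : M) (q : ℕ) (x : ↥(⋀[A]^q M)) :
    (wedge v q x : ExteriorAlgebra A M) = ExteriorAlgebra.ι A v * x := rfl

theorem wedge_iMulti (v : M) (q : ℕ) (w : Fin q → M) :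
    wedge v q (ιMulti A q w) = ιMulti A (q + 1) (Fin.cons v w) :=
  Subtype.ext (by rw [coe_wedge, coe_cons])

theorem wedge_self (v : M) (q : ℕ) (x : ↥(⋀[A]^q M)) : wedge v (q + 1) (wedge v q x) = 0 :=
  Subtype.ext (by rw [coe_wedge, coe_wedge, ← mul_assoc, ExteriorAlgebra.ι_sq_zero, zero_mul]; rfl)

theorem wedge_smul_left (c : A) (v : M) (q : ℕ) (x : ↥(⋀[A]^q M)) :
    wedge (c • v) q x = c • wedge v q x :=
  Subtype.ext (by rw [coe_wedge, map_smul, smul_mul_assoc]; rfl)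

theorem wedge_add_left (v w : M) (q : ℕ) (x : ↥(⋀[A]^q M)) :
    wedge (v + w) q x = wedge v q x + wedge w q x :=
  Subtype.ext (by rw [coe_wedge, map_add, add_mul]; rfl)

theorem wedge_zero_left (q : ℕ) (x : ↥(⋀[A]^q M)) : wedge (0 : M) q x = 0 :=
  Subtype.ext (by rw [coe_wedge, map_zero, zero_mul]; rfl)

theorem contractLeft_mem (θ : Module.Dual A M) : ∀ (q : ℕ) (x : ↥(⋀[A]^(q + 1) M)),
    CliffordAlgebra.contractLeft θ (x : ExteriorAlgebra A M) ∈ ⋀[A]^q M := by
  intro q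
  induction q with
  | zero =>
    rintro ⟨x, hx⟩
    have hx' : x ∈ LinearMap.range (ExteriorAlgebra.ι A (M := M)) := by
      have h : x ∈ LinearMap.range (ExteriorAlgebra.ι A (M := M)) ^ 1 := hx
      rwa [pow_one] at h
    obtain ⟨m, rfl⟩ := hx'
    show CliffordAlgebra.contractLeft θ (CliffordAlgebra.ι _ m) ∈
      LinearMap.range (ExteriorAlgebra.ι A (M := M)) ^ 0
    rw [CliffordAlgebra.contractLeft_ι, pow_zero]
    exact Submodule.mem_one.mpr ⟨θ m, rfl⟩
  | succ q ih =>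
    rintro ⟨x, hx⟩
    have hx' : x ∈ LinearMap.range (ExteriorAlgebra.ι A (M := M)) * ⋀[A]^(q + 1) M := by
      have h : x ∈ LinearMap.range (ExteriorAlgebra.ι A (M := M)) ^ (q + 2) := hx
      rw [pow_succ'] at h
      exact h
    induction hx' using Submodule.mul_induction_on' with
    | mem_mul_mem a ha y hy =>
      obtain ⟨m, rfl⟩ := ha
      show CliffordAlgebra.contractLeft θ (CliffordAlgebra.ι _ m * y) ∈ _
      rw [CliffordAlgebra.contractLeft_ι_mul]
      refine sub_mem (Submodule.smul_mem _ _ hy) ?_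
      show ExteriorAlgebra.ι A m * _ ∈ LinearMap.range (ExteriorAlgebra.ι A (M := M)) ^ (q + 1)
      rw [pow_succ']
      exact Submodule.mul_mem_mul (LinearMap.mem_range_self _ m) (ih ⟨y, hy⟩)
    | add a ha b hb iha ihb =>
      show CliffordAlgebra.contractLeft θ (a + b) ∈ _
      have ha' : a ∈ ⋀[A]^(q + 2) M := by
        show a ∈ LinearMap.range (ExteriorAlgebra.ι A (M := M)) ^ (q + 2)
        rw [pow_succ']; exact ha
      have hb' : b ∈ ⋀[A]^(q + 2) M := by
        show b ∈ LinearMap.range (ExteriorAlgebra.ι A (M := M)) ^ (q + 2)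
        rw [pow_succ']; exact hb
      rw [map_add]
      exact add_mem (iha ha') (ihb hb')

/-- Contraction with a linear form. -/
noncomputable def contr (θ : Module.Dual A M) (q : ℕ) : ↥(⋀[A]^(q + 1) M) →ₗ[A] ↥(⋀[A]^q M) :=
  LinearMap.codRestrict _ ((CliffordAlgebra.contractLeft θ).comp (⋀[A]^(q + 1) M).subtype)
    (contractLeft_mem θ q)

theorem contr_wedge_succ (θ : Module.Dual A M) (v : M) (q : ℕ) (x : ↥(⋀[A]^(q + 1) M)) :
    contr θ (q + 1) (wedge v (q + 1) x) = θ v • x - wedge v q (contr θ q x) :=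
  Subtype.ext (CliffordAlgebra.contractLeft_ι_mul θ v x.1)

theorem contr_wedge_zero (θ : Module.Dual A M) (v : M) (x : ↥(⋀[A]^0 M)) :
    contr θ 0 (wedge v 0 x) = θ v • x := by
  refine Subtype.ext ?_
  show CliffordAlgebra.contractLeft θ (CliffordAlgebra.ι _ v * x.1) = θ v • x.1
  rw [CliffordAlgebra.contractLeft_ι_mul]
  obtain ⟨c, hc⟩ : ∃ c : A, algebraMap A (ExteriorAlgebra A M) c = x.1 := by
    have h : x.1 ∈ LinearMap.range (ExteriorAlgebra.ι A (M := M)) ^ 0 := x.2
    rw [pow_zero] at h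
    exact Submodule.mem_one.mp h
  rw [← hc]
  show _ - _ * CliffordAlgebra.contractLeft θ (algebraMap A (CliffordAlgebra _) c) = _
  rw [CliffordAlgebra.contractLeft_algebraMap, mul_zero, sub_zero]

end Ops

section Calculus

variable {R : Type v} {A M : Type u} [CommRing R] [CommRing A] [Algebra R A]
  [AddCommGroup M] [Module A M] [Module R M] [IsScalarTower R A M] {δ : Derivation R A M}
  {d : ∀ p : ℕ, ↥(⋀[A]^p M) →ₗ[R] ↥(⋀[A]^(p + 1) M)}

theorem diff_smul (hspan : Submodule.span A (Set.range δ) = ⊤) (hd : DeRham.IsRule δ d)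
    (q : ℕ) (c : A) (x : ↥(⋀[A]^q M)) :
    d q (c • x) = wedge (δ c) q x + c • d q x := by
  refine induction_gen hspan (P := fun x => d q (c • x) = wedge (δ c) q x + c • d q x) (by simp)
    (fun x y hx hy => by simp only [smul_add, map_add, hx, hy]; abel) (fun b₀ b => ?_) x
  rw [← sub_eq_iff_eq_add, diff_smul_gen hd, DeRham.gen, map_smul, wedge_iMulti]

theorem diff_wedge (hspan : Submodule.span A (Set.range δ) = ⊤) (hd : DeRham.IsDiff δ d)
    (q : ℕ) (b : A) (x : ↥(⋀[A]^q M)) :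
    d (q + 1) (wedge (δ b) q x) = - wedge (δ b) (q + 1) (d q x) := by
  have h := congrArg (d (q + 1)) (diff_smul hspan hd.1 q b x)
  rw [map_add, show d (q + 1) (d q (b • x)) = 0 from LinearMap.congr_fun (hd.2 q) _,
    diff_smul hspan hd.1 (q + 1) b (d q x),
    show d (q + 1) (d q x) = 0 from LinearMap.congr_fun (hd.2 q) _, smul_zero, add_zero] at h
  exact eq_neg_of_add_eq_zero_left h.symm

end Calculus

section Elimination

variable {R : Type v} {A M : Type u} [CommRing R] [CommRing A] [Algebra R A]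
  [AddCommGroup M] [Module A M] [Module R M] [IsScalarTower R A M]

/-- A variable `X` with integrals `e m` of its powers, and forms `G` free of it. -/
structure Var (δ : Derivation R A M) (d : ∀ p : ℕ, ↥(⋀[A]^p M) →ₗ[R] ↥(⋀[A]^(p + 1) M)) where
  hspan : Submodule.span A (Set.range δ) = ⊤
  hd : DeRham.IsDiff δ d
  X : A
  e : ℕ → A
  e_zero : e 0 = 1
  diff_e : ∀ m, δ (e (m + 1)) = e m • δ X
  θ : Module.Dual A M
  θ_X : θ (δ X) = 1
  G : ∀ q, AddSubgroup ↥(⋀[A]^q M)
  G_diff : ∀ q x, x ∈ G q → d q x ∈ G (q + 1)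
  G_θ : ∀ q x, x ∈ G (q + 1) → contr θ q x = 0

variable {δ : Derivation R A M} {d : ∀ p : ℕ, ↥(⋀[A]^p M) →ₗ[R] ↥(⋀[A]^(p + 1) M)} (V : Var δ d)

namespace Var

theorem contr_wedge_G (v : M) : ∀ (q : ℕ) (g : ↥(⋀[A]^q M)), g ∈ V.G q →
    contr V.θ q (wedge v q g) = V.θ v • g := by
  rintro (_ | q) g hg
  · exact contr_wedge_zero _ _ _
  · rw [contr_wedge_succ, V.G_θ q g hg, map_zero, sub_zero]

theorem contr_diff_smul (q : ℕ) (c : A) (g : ↥(⋀[A]^q M)) (hg : g ∈ V.G q) :
    contr V.θ q (d q (c • g)) = V.θ (δ c) • g := by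
  rw [diff_smul V.hspan V.hd.1, map_add, map_smul, V.contr_wedge_G _ q g hg,
    V.G_θ q _ (V.G_diff q g hg), smul_zero, add_zero]

/-- Sums of integrals times free forms. -/
noncomputable def comb (q N : ℕ) (a : ℕ → ↥(⋀[A]^q M)) : ↥(⋀[A]^q M) :=
  ∑ m ∈ Finset.range N, V.e m • a m

theorem comb_succ (q N : ℕ) (a : ℕ → ↥(⋀[A]^q M)) :
    V.comb q (N + 1) a = a 0 + ∑ m ∈ Finset.range N, V.e (m + 1) • a (m + 1) := by
  rw [comb, Finset.sum_range_succ', V.e_zero, one_smul, add_comm]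

theorem contr_diff_comb (q N : ℕ) (a : ℕ → ↥(⋀[A]^q M)) (ha : ∀ m, a m ∈ V.G q) :
    contr V.θ q (d q (V.comb q (N + 1) a)) = V.comb q N (fun m => a (m + 1)) := by
  rw [comb_succ, map_add, map_add, V.G_θ q _ (V.G_diff q _ (ha 0)), zero_add, map_sum, map_sum, comb]
  refine Finset.sum_congr rfl fun m _ => ?_
  rw [V.contr_diff_smul q _ _ (ha _), V.diff_e, map_smul, V.θ_X, smul_eq_mul, mul_one]

theorem eq_zero_of_comb (q : ℕ) : ∀ (N : ℕ) (a : ℕ → ↥(⋀[A]^q M)), (∀ m, a m ∈ V.G q) →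
    V.comb q N a = 0 → ∀ m < N, a m = 0 := by
  intro N
  induction N with
  | zero => intro a _ _ m hm; omega
  | succ N ih =>
    intro a ha h
    have h1 := ih (fun m => a (m + 1)) (fun m => ha _) (by
      rw [← V.contr_diff_comb q N a ha, h, map_zero, map_zero])
    rintro (_ | m) hm
    · rw [comb_succ, Finset.sum_eq_zero fun j hj => by
        rw [h1 j (Finset.mem_range.mp hj), smul_zero], add_zero] at h
      exact h
    · exact h1 m (by omega)

/-- The forms of degree zero built from the variable. -/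
def Dec₀ (ω : ↥(⋀[A]^0 M)) : Prop :=
  ∃ N a, (∀ m, a m ∈ V.G 0) ∧ (∀ m, N ≤ m → a m = 0) ∧ ω = V.comb 0 N a

/-- The forms of positive degree built from the variable. -/
def Dec (q : ℕ) (ω : ↥(⋀[A]^(q + 1) M)) : Prop :=
  ∃ N a b, (∀ m, a m ∈ V.G (q + 1)) ∧ (∀ m, b m ∈ V.G q) ∧ (∀ m, N ≤ m → a m = 0) ∧
    (∀ m, N ≤ m → b m = 0) ∧ ω = V.comb (q + 1) N a + wedge (δ V.X) q (V.comb q N b)

theorem comb_extend (q : ℕ) {N N' : ℕ} (h : N ≤ N') (a : ℕ → ↥(⋀[A]^q M))
    (ha : ∀ m, N ≤ m → a m = 0) : V.comb q N' a = V.comb q N a :=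
  (Finset.sum_subset (Finset.range_mono h) fun m _ hm => by
    rw [ha m (by simpa using hm), smul_zero]).symm

theorem comb_add (q N : ℕ) (a b : ℕ → ↥(⋀[A]^q M)) :
    V.comb q N (a + b) = V.comb q N a + V.comb q N b := by
  simp [comb, Finset.sum_add_distrib]

theorem comb_single (q m : ℕ) (g : ↥(⋀[A]^q M)) :
    V.comb q (m + 1) (fun j => if j = m then g else 0) = V.e m • g := by
  rw [comb, Finset.sum_eq_single m (fun j _ hj => by rw [if_neg hj, smul_zero])
    (fun h => absurd (Finset.self_mem_range_succ m) h), if_pos rfl]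

theorem dec_zero (q : ℕ) : V.Dec q 0 :=
  ⟨0, 0, 0, fun _ => zero_mem _, fun _ => zero_mem _, fun _ _ => rfl, fun _ _ => rfl, by simp [comb]⟩

theorem dec₀_zero : V.Dec₀ 0 := ⟨0, 0, fun _ => zero_mem _, fun _ _ => rfl, by simp [comb]⟩

theorem dec_smul_G (q m : ℕ) (g : ↥(⋀[A]^(q + 1) M)) (hg : g ∈ V.G (q + 1)) :
    V.Dec q (V.e m • g) := by
  refine ⟨m + 1, fun j => if j = m then g else 0, 0, fun j => ?_, fun _ => zero_mem _, fun j hj => ?_,
    fun _ _ => rfl, ?_⟩
  · dsimp only; split_ifs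
    exacts [hg, zero_mem _]
  · simp only [show j ≠ m by omega, if_false]
  · rw [V.comb_single, show V.comb q (m + 1) (0 : ℕ → ↥(⋀[A]^q M)) = 0 by simp [comb], map_zero,
      add_zero]

theorem dec_smul_wedge (q m : ℕ) (g : ↥(⋀[A]^q M)) (hg : g ∈ V.G q) :
    V.Dec q (V.e m • wedge (δ V.X) q g) := by
  refine ⟨m + 1, 0, fun j => if j = m then g else 0, fun _ => zero_mem _, fun j => ?_,
    fun _ _ => rfl, fun j hj => ?_, ?_⟩
  · dsimp only; split_ifs
    exacts [hg, zero_mem _]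
  · simp only [show j ≠ m by omega, if_false]
  · rw [V.comb_single, show V.comb (q + 1) (m + 1) (0 : ℕ → ↥(⋀[A]^(q + 1) M)) = 0 by simp [comb],
      zero_add, map_smul]

theorem dec₀_smul_G (m : ℕ) (g : ↥(⋀[A]^0 M)) (hg : g ∈ V.G 0) : V.Dec₀ (V.e m • g) := by
  refine ⟨m + 1, fun j => if j = m then g else 0, fun j => ?_, fun j hj => ?_, (V.comb_single 0 m g).symm⟩
  · dsimp only; split_ifs
    exacts [hg, zero_mem _]
  · simp only [show j ≠ m by omega, if_false]

theorem dec_add {q : ℕ} {x y : ↥(⋀[A]^(q + 1) M)} (hx : V.Dec q x) (hy : V.Dec q y) :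
    V.Dec q (x + y) := by
  obtain ⟨N, a, b, ha, hb, ha', hb', rfl⟩ := hx
  obtain ⟨N', a₁, b₁, ha₁, hb₁, ha₁', hb₁', rfl⟩ := hy
  refine ⟨max N N', a + a₁, b + b₁, fun m => add_mem (ha m) (ha₁ m), fun m => add_mem (hb m) (hb₁ m),
    fun m hm => ?_, fun m hm => ?_, ?_⟩
  · rw [Pi.add_apply, ha' m (le_trans (le_max_left _ _) hm), ha₁' m (le_trans (le_max_right _ _) hm), add_zero]
  · rw [Pi.add_apply, hb' m (le_trans (le_max_left _ _) hm), hb₁' m (le_trans (le_max_right _ _) hm), add_zero]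
  · rw [comb_add, comb_add, map_add, V.comb_extend _ (le_max_left N N') a ha',
      V.comb_extend _ (le_max_right N N') a₁ ha₁', V.comb_extend _ (le_max_left N N') b hb',
      V.comb_extend _ (le_max_right N N') b₁ hb₁']
    abel

theorem dec₀_add {x y : ↥(⋀[A]^0 M)} (hx : V.Dec₀ x) (hy : V.Dec₀ y) : V.Dec₀ (x + y) := by
  obtain ⟨N, a, ha, ha', rfl⟩ := hx
  obtain ⟨N', a₁, ha₁, ha₁', rfl⟩ := hy
  refine ⟨max N N', a + a₁, fun m => add_mem (ha m) (ha₁ m), fun m hm => ?_, ?_⟩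
  · rw [Pi.add_apply, ha' m (le_trans (le_max_left _ _) hm), ha₁' m (le_trans (le_max_right _ _) hm), add_zero]
  · rw [comb_add, V.comb_extend _ (le_max_left N N') a ha', V.comb_extend _ (le_max_right N N') a₁ ha₁']

/-- A closed function built from the variable is free of it. -/
theorem closed₀ (ω : ↥(⋀[A]^0 M)) (hω : V.Dec₀ ω) (hc : d 0 ω = 0) : ω ∈ V.G 0 := by
  obtain ⟨N, a, ha, ha', rfl⟩ := hω
  rw [← V.comb_extend 0 N.le_succ a ha'] at hc ⊢
  have h := V.contr_diff_comb 0 N a ha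
  rw [hc, map_zero] at h
  have h1 := V.eq_zero_of_comb 0 N _ (fun m => ha _) h.symm
  rw [comb_succ, Finset.sum_eq_zero fun j hj => by
    rw [h1 j (Finset.mem_range.mp hj), smul_zero], add_zero]
  exact ha 0

theorem diff_comb_wedge (q N : ℕ) (b : ℕ → ↥(⋀[A]^q M)) :
    d (q + 1) (wedge (δ V.X) q (V.comb q N b)) =
      - wedge (δ V.X) (q + 1) (V.comb (q + 1) N (fun m => d q (b m))) := by
  rw [diff_wedge V.hspan V.hd, neg_inj]
  simp only [comb, map_sum]
  refine Finset.sum_congr rfl fun m _ => ?_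
  rw [diff_smul V.hspan V.hd.1, map_add]
  rcases m with _ | m
  · rw [V.e_zero, Derivation.map_one_eq_zero, wedge_zero_left, map_zero, zero_add]
  · rw [V.diff_e, wedge_smul_left, map_smul, wedge_self, smul_zero, zero_add]

/-- A closed form built from the variable is, up to an exact form, closed and free of it. -/
theorem closed (q : ℕ) (ω : ↥(⋀[A]^(q + 1) M)) (hω : V.Dec q ω) (hc : d (q + 1) ω = 0) :
    ∃ g ∈ V.G (q + 1), d (q + 1) g = 0 ∧ ∃ η, ω - g = d q η := by
  obtain ⟨N, a, b, ha, hb, ha', hb', rfl⟩ := hω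
  have hdb : ∀ m, d q (b m) ∈ V.G (q + 1) := fun m => V.G_diff q _ (hb m)
  have key : V.comb (q + 1) N (fun m => a (m + 1) - d q (b m)) = 0 := by
    have h := congrArg (contr V.θ (q + 1)) hc
    rw [← V.comb_extend (q + 1) N.le_succ a ha', map_add, map_add, V.contr_diff_comb _ _ _ ha,
      V.diff_comb_wedge, map_neg, map_zero] at h
    have h2 : contr V.θ (q + 1) (wedge (δ V.X) (q + 1) (V.comb (q + 1) N fun m => d q (b m))) =
        V.comb (q + 1) N fun m => d q (b m) := by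
      simp only [comb, map_sum, map_smul]
      refine Finset.sum_congr rfl fun m _ => ?_
      rw [V.contr_wedge_G _ _ _ (hdb m), V.θ_X, one_smul]
    rw [h2, ← sub_eq_add_neg] at h
    simpa [comb, smul_sub, Finset.sum_sub_distrib] using h
  have hab : ∀ m, a (m + 1) = d q (b m) := fun m => by
    rcases lt_or_ge m N with hm | hm
    · exact sub_eq_zero.mp (V.eq_zero_of_comb _ N _ (fun m => sub_mem (ha _) (hdb m)) key m hm)
    · rw [ha' _ (by omega), hb' _ hm, map_zero]
  let η := ∑ m ∈ Finset.range N, V.e (m + 1) • b m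
  have hη : V.comb (q + 1) N a + wedge (δ V.X) q (V.comb q N b) - a 0 = d q η := by
    rw [← V.comb_extend (q + 1) N.le_succ a ha', comb_succ]
    simp only [η, map_sum, comb, diff_smul V.hspan V.hd.1, V.diff_e, wedge_smul_left, hab, map_smul,
      Finset.sum_add_distrib]
    abel
  refine ⟨a 0, ha 0, ?_, η, hη⟩
  have h := congrArg (d (q + 1)) hη
  rw [map_sub, hc, show d (q + 1) (d q η) = 0 from LinearMap.congr_fun (V.hd.2 q) _, zero_sub,
    neg_eq_zero] at h
  exact h

end Var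

end Elimination

end Groth.Agent.DR29
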