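import Groth.Agent.DR29.Basic
import Mathlib.Algebra.Polynomial.Laurent
import Mathlib.Algebra.MonoidAlgebra.Module

/-! Kaehler differentials of Laurent polynomials. -/

set_option autoImplicit false

universe u

open LaurentPolynomial

namespace Groth.Agent.DR29

variable (k : Type u) [CommRing k]

/-- The linear map T^n ↦ n T^n. -/
noncomputable def eulerLin : LaurentPolynomial k →ₗ[k] LaurentPolynomial k :=
  (AddMonoidAlgebra.basis ℤ k).constr k fun n => (n : k) • T n

theorem eulerLin_C_mul_T (r : k) (n : ℤ) : eulerLin k (C r * T n) = (n : k) • (C r * T n) := by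
  have hT : eulerLin k (T n) = (n : k) • T n := by
    have := (AddMonoidAlgebra.basis ℤ k).constr_basis k (fun n => (n : k) • (T n : LaurentPolynomial k)) n
    rwa [AddMonoidAlgebra.basis_apply] at this
  rw [← smul_eq_C_mul, map_smul, hT, smul_comm]

/-- The derivation T d/dT. -/
noncomputable def eulerDer : Derivation k (LaurentPolynomial k) (LaurentPolynomial k) :=
  Derivation.mk' (eulerLin k) fun f g => by
    induction f using LaurentPolynomial.induction_on' with
    | add f₁ f₂ h1 h2 => simp only [add_mul, map_add, h1, h2, smul_eq_mul, mul_add]; ring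
    | C_mul_T n a =>
      induction g using LaurentPolynomial.induction_on' with
      | add g₁ g₂ h1 h2 => simp only [mul_add, map_add, h1, h2, smul_eq_mul, add_mul]; ring
      | C_mul_T m b =>
        rw [show C a * T n * (C b * T m) = C (a * b) * T (n + m) by rw [map_mul, T_add]; ring,
          eulerLin_C_mul_T, eulerLin_C_mul_T, eulerLin_C_mul_T, Int.cast_add, map_mul, T_add,
          smul_eq_C_mul, smul_eq_C_mul, smul_eq_C_mul, map_add, smul_eq_mul, smul_eq_mul]
        ring

theorem coeff_eulerDer (f : LaurentPolynomial k) (m : ℤ) :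
    (eulerDer k f).coeff m = (m : k) * f.coeff m := by
  show (eulerLin k f).coeff m = _
  induction f using LaurentPolynomial.induction_on' with
  | add f g hf hg => simp [hf, hg, mul_add]
  | C_mul_T n a =>
    rw [eulerLin_C_mul_T, ← single_eq_C_mul_T, AddMonoidAlgebra.smul_single,
      AddMonoidAlgebra.coeff_single, AddMonoidAlgebra.coeff_single]
    rcases eq_or_ne n m with rfl | h
    · simp
    · simp [h]

/-- Evaluation of a one-form. -/
noncomputable def formVal : Ω[LaurentPolynomial k⁄k] →ₗ[LaurentPolynomial k] LaurentPolynomial k :=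
  (eulerDer k).liftKaehlerDifferential

theorem formVal_D (f : LaurentPolynomial k) :
    formVal k (KaehlerDifferential.D k _ f) = eulerDer k f :=
  Derivation.liftKaehlerDifferential_comp_D _ _

theorem eulerDer_T_one : eulerDer k (T 1) = T 1 := by
  have h := eulerLin_C_mul_T k 1 1
  rw [map_one, one_mul, Int.cast_one, one_smul] at h
  exact h

theorem D_eq (f : LaurentPolynomial k) :
    KaehlerDifferential.D k (LaurentPolynomial k) f =
      eulerDer k f • (T (-1) : LaurentPolynomial k) • KaehlerDifferential.D k _ (T 1) := by
  set D := KaehlerDifferential.D k (LaurentPolynomial k) with hD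
  set w := (T (-1) : LaurentPolynomial k) • D (T 1) with hw
  let E : Derivation k (LaurentPolynomial k) (Ω[LaurentPolynomial k⁄k]) :=
    ((LinearMap.id : LaurentPolynomial k →ₗ[LaurentPolynomial k] _).smulRight w).compDer (eulerDer k)
  suffices D f = E f from this
  have hnat : ∀ n : ℕ, D (T n) = E (T n) := by
    intro n
    have h1 : D (T 1) = E (T 1) := by
      show _ = eulerDer k (T 1) • w
      rw [eulerDer_T_one, hw, smul_smul, ← T_add, add_neg_cancel, T_zero, one_smul]
    induction n with
    | zero => simp only [Nat.cast_zero, T_zero, Derivation.map_one_eq_zero]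
    | succ n ih => rw [Nat.cast_succ, T_add, D.leibniz, E.leibniz, ih, h1]
  have hT : ∀ n : ℤ, D (T n) = E (T n) := by
    intro n
    rcases Int.eq_nat_or_neg n with ⟨m, rfl | rfl⟩
    · exact hnat m
    · have h0 : (T (m : ℤ) : LaurentPolynomial k) * T (-(m : ℤ)) = 1 := by
        rw [← T_add, add_neg_cancel, T_zero]
      have e1 := congrArg D h0
      have e2 := congrArg E h0
      rw [D.leibniz, Derivation.map_one_eq_zero] at e1
      rw [E.leibniz, Derivation.map_one_eq_zero, ← hnat m] at e2
      have e3 := e1.trans e2.symm
      rw [add_left_inj] at e3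
      have e4 := congrArg (fun v => (T (-(m : ℤ)) : LaurentPolynomial k) • v) e3
      simp only [smul_smul, ← T_add, neg_add_cancel, T_zero, one_smul] at e4
      exact e4
  induction f using LaurentPolynomial.induction_on' with
  | add f g hf hg => rw [map_add, map_add, hf, hg]
  | C_mul_T n a =>
    rw [← smul_eq_C_mul, Derivation.map_smul, Derivation.map_smul, hT]

theorem eq_formVal_smul (ω : Ω[LaurentPolynomial k⁄k]) :
    ω = formVal k ω • (T (-1) : LaurentPolynomial k) • KaehlerDifferential.D k _ (T 1) := by
  have hω : ω ∈ Submodule.span (LaurentPolynomial k)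
      (Set.range (KaehlerDifferential.D k (LaurentPolynomial k))) := by
    rw [span_kaehler]; trivial
  induction hω using Submodule.span_induction with
  | mem ω hω => obtain ⟨f, rfl⟩ := hω; rw [formVal_D]; exact D_eq k f
  | zero => simp
  | add x y _ _ hx hy => rw [map_add, add_smul, ← hx, ← hy]
  | smul a x _ hx => rw [map_smul, smul_eq_mul, mul_smul, ← hx]

end Groth.Agent.DR29
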