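import Groth.Agent.DR29.Homotopy
import Mathlib.LinearAlgebra.ExteriorPower.Basis
import Mathlib.RingTheory.AlgebraTower
import Mathlib.RingTheory.MvPolynomial.Basic
import Mathlib.Algebra.CharP.Basic
import Mathlib.Algebra.MvPolynomial.Expand
import Mathlib.Data.ZMod.Basic
import Mathlib.Algebra.Field.ZMod

/-! The logarithmic de Rham complex of affine space in characteristic `p`: the homotopy onto the
weights divisible by `p`. -/

set_option autoImplicit false

universe u

open exteriorPower MvPolynomial

namespace Groth.Agent.DR29.LogCartier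

variable {R : Type u} [CommRing R] {n : ℕ} (r : ℕ)

/-- The loss of degree of the `i`th basic form. -/
def dec (i : Fin n) : ℕ := if r ≤ i.1 then 1 else 0

/-- The weight of a monomial form. -/
noncomputable def wt (α : Fin n →₀ ℕ) (s : Finset (Fin n)) : Fin n →₀ ℕ :=
  Finsupp.equivFunOnFinite.symm fun i => α i + if i ∈ s then dec r i else 0

/-- The exponent of a monomial form of given weight. -/
noncomputable def ex (β : Fin n →₀ ℕ) (s : Finset (Fin n)) : Fin n →₀ ℕ :=
  Finsupp.equivFunOnFinite.symm fun i => β i - if i ∈ s then dec r i else 0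

theorem wt_apply (α : Fin n →₀ ℕ) (s : Finset (Fin n)) (i : Fin n) :
    wt r α s i = α i + if i ∈ s then dec r i else 0 := rfl

theorem ex_apply (β : Fin n →₀ ℕ) (s : Finset (Fin n)) (i : Fin n) :
    ex r β s i = β i - if i ∈ s then dec r i else 0 := rfl

/-- A weight occurring on a set of indices. -/
def Valid (β : Fin n →₀ ℕ) (s : Finset (Fin n)) : Prop := ∀ i ∈ s, dec r i ≤ β i

theorem ex_wt (α : Fin n →₀ ℕ) (s : Finset (Fin n)) : ex r (wt r α s) s = α :=
  Finsupp.ext fun i => by rw [ex_apply, wt_apply, Nat.add_sub_cancel]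

theorem valid_wt (α : Fin n →₀ ℕ) (s : Finset (Fin n)) : Valid r (wt r α s) s := fun i hi => by
  rw [wt_apply, if_pos hi]; exact Nat.le_add_left _ _

theorem wt_ex {β : Fin n →₀ ℕ} {s : Finset (Fin n)} (h : Valid r β s) : wt r (ex r β s) s = β :=
  Finsupp.ext fun i => by
    rw [wt_apply, ex_apply]
    split_ifs with hi
    · exact Nat.sub_add_cancel (h i hi)
    · simp

variable (R) in
/-- All partial degrees of the weight vanish in `R`. -/
def Good (β : Fin n →₀ ℕ) : Prop := ∀ i, (β i : R) = 0

variable {L : Type u} [AddCommGroup L] [Module (MvPolynomial (Fin n) R) L] [Module R L]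
  [IsScalarTower R (MvPolynomial (Fin n) R) L]
  (l : Module.Basis (Fin n) (MvPolynomial (Fin n) R) L)

local notation "P" => MvPolynomial (Fin n) R

/-- The basic wedge of a tuple. -/
noncomputable def E {q : ℕ} (f : Fin q → Fin n) : ↥(⋀[P]^q L) :=
  ιMulti P q fun a => l (f a)

/-- The monomial form. -/
noncomputable def mf (β : Fin n →₀ ℕ) {q : ℕ} (f : Fin q → Fin n) : ↥(⋀[P]^q L) :=
  monomial (ex r β (Finset.univ.image f)) (1 : R) • E l f

theorem image_cons {q : ℕ} (i : Fin n) (f : Fin q → Fin n) :
    Finset.univ.image (Fin.cons i f : Fin (q + 1) → Fin n) = insert i (Finset.univ.image f) := by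
  ext x
  simp [Fin.exists_fin_succ, eq_comm]

omit [Module R L] [IsScalarTower R P L] in
theorem wedge_E {q : ℕ} (i : Fin n) (f : Fin q → Fin n) : wedge (l i) q (E l f) = E l (Fin.cons i f) := by
  rw [E, wedge_iMulti, E]
  congr 1
  funext a
  cases a using Fin.cases <;> simp

omit [Module R L] [IsScalarTower R P L] in
theorem E_cons_mem {q : ℕ} {i : Fin n} {f : Fin q → Fin n} (h : i ∈ Finset.univ.image f) :
    E l (Fin.cons i f) = 0 := by
  obtain ⟨a, -, rfl⟩ := Finset.mem_image.1 h
  exact (ιMulti P (q + 1)).map_eq_zero_of_eq _ (i := 0) (j := a.succ) (by simp) (Fin.succ_ne_zero a).symm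

omit [Module R L] [IsScalarTower R P L] in
theorem exists_sign {q : ℕ} {f g : Fin q → Fin n} (hf : Function.Injective f) (hg : Function.Injective g)
    (h : Finset.univ.image f = Finset.univ.image g) : ∃ c : ℤ, E l f = c • E l g := by
  classical
  have hm : ∀ a, ∃ b, g b = f a := fun a => by
    have : f a ∈ Finset.univ.image g := h ▸ Finset.mem_image_of_mem f (Finset.mem_univ a)
    simpa using this
  choose σ hσ using hm
  have hσi : Function.Injective σ := fun a a' e => hf (by rw [← hσ a, ← hσ a', e])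
  let τ : Equiv.Perm (Fin q) := Equiv.ofBijective σ (Finite.injective_iff_bijective.1 hσi)
  refine ⟨(Equiv.Perm.sign τ : ℤ), ?_⟩
  have := (ιMulti P q).map_perm (fun a => l (g a)) τ
  rw [E, E]
  convert this using 2
  · funext a
    exact congrArg l (hσ a).symm
  · exact (Units.smul_def (Equiv.Perm.sign τ) _).symm

omit [Module R L] [IsScalarTower R P L] in
theorem contr_E_of_notMem (j : Fin n) : ∀ {q : ℕ} (f : Fin (q + 1) → Fin n),
    j ∉ Finset.univ.image f → contr (l.coord j) q (E l f) = 0 := by
  intro q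
  induction q with
  | zero =>
    intro f hj
    rw [← Fin.cons_self_tail f, ← wedge_E, contr_wedge_zero, Module.Basis.coord_apply,
      Module.Basis.repr_self, Finsupp.single_eq_of_ne (fun e : j = f 0 => hj (by simp [e])), zero_smul]
  | succ q ih =>
    intro f hj
    rw [← Fin.cons_self_tail f, image_cons, Finset.mem_insert, not_or] at hj
    rw [← Fin.cons_self_tail f, ← wedge_E, contr_wedge_succ, ih _ hj.2, map_zero, sub_zero,
      Module.Basis.coord_apply, Module.Basis.repr_self, Finsupp.single_eq_of_ne hj.1, zero_smul]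

omit [Module R L] [IsScalarTower R P L] in
theorem contr_E_cons (j i : Fin n) : ∀ {q : ℕ} (f : Fin q → Fin n), j ∉ Finset.univ.image f →
    contr (l.coord j) q (E l (Fin.cons i f)) = (if i = j then E l f else 0) := by
  intro q
  cases q with
  | zero =>
    intro f _
    rw [← wedge_E, contr_wedge_zero, Module.Basis.coord_apply, Module.Basis.repr_self]
    split_ifs with h
    · rw [h, Finsupp.single_eq_same, one_smul]
    · rw [Finsupp.single_eq_of_ne (Ne.symm h), zero_smul]
  | succ q =>
    intro f hj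
    rw [← wedge_E, contr_wedge_succ, contr_E_of_notMem l j f hj, map_zero, sub_zero,
      Module.Basis.coord_apply, Module.Basis.repr_self]
    split_ifs with h
    · rw [h, Finsupp.single_eq_same, one_smul]
    · rw [Finsupp.single_eq_of_ne (Ne.symm h), zero_smul]

/-- The monomial basis of the forms. -/
noncomputable def bas (q : ℕ) :
    Module.Basis ((Fin n →₀ ℕ) × Set.powersetCard (Fin n) q) R ↥(⋀[P]^q L) :=
  (MvPolynomial.basisMonomials (Fin n) R).smulTower (l.exteriorPower q)

theorem bas_apply {q : ℕ} (x : (Fin n →₀ ℕ) × Set.powersetCard (Fin n) q) :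
    bas l q x = monomial x.1 (1 : R) • E l (Set.powersetCard.ofFinEmbEquiv.symm x.2) := by
  rw [bas, Module.Basis.smulTower_apply, MvPolynomial.coe_basisMonomials, exteriorPower.basis_apply]
  rfl

theorem image_emb {q : ℕ} (s : Set.powersetCard (Fin n) q) :
    Finset.univ.image (Set.powersetCard.ofFinEmbEquiv.symm s) = s.1 := by
  ext i
  rw [← SetLike.mem_coe, Finset.coe_image, Finset.coe_univ, Set.image_univ]
  exact Set.powersetCard.mem_range_ofFinEmbEquiv_symm_iff_mem s i

theorem bas_eq_mf {q : ℕ} (x : (Fin n →₀ ℕ) × Set.powersetCard (Fin n) q) :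
    bas l q x = mf r l (wt r x.1 x.2.1) (Set.powersetCard.ofFinEmbEquiv.symm x.2) := by
  rw [bas_apply, mf, image_emb, ex_wt]

variable {p : ℕ} [Fact p.Prime] [CharP R p]

open scoped Classical in
/-- The chosen index of a weight. -/
noncomputable def jj (β : Fin n →₀ ℕ) (h : ¬ Good R β) : Fin n :=
  (not_forall.1 h).choose

variable (p) in
/-- The inverse of the chosen partial degree. -/
noncomputable def uu (β : Fin n →₀ ℕ) (h : ¬ Good R β) : R :=
  ZMod.castHom (dvd_refl p) R ((β (jj β h) : ZMod p)⁻¹)

theorem uu_mul (β : Fin n →₀ ℕ) (h : ¬ Good R β) : uu p β h * (β (jj β h) : R) = 1 := by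
  have hne : (β (jj β h) : R) ≠ 0 := (not_forall.1 h).choose_spec
  have hne' : (β (jj β h) : ZMod p) ≠ 0 := fun h0 =>
    hne (by rw [← map_natCast (ZMod.castHom (dvd_refl p) R), h0, map_zero])
  rw [uu, ← map_natCast (ZMod.castHom (dvd_refl p) R), ← map_mul,
    show (β (jj β h) : ZMod p)⁻¹ * (β (jj β h) : ZMod p) = 1 from inv_mul_cancel₀ hne', map_one]

theorem pos_of_ne {β : Fin n →₀ ℕ} {i : Fin n} (h : (β i : R) ≠ 0) : dec r i ≤ β i := by
  have : β i ≠ 0 := fun h0 => h (by rw [h0, Nat.cast_zero])
  unfold dec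
  split_ifs <;> omega

variable (p) in
open scoped Classical in
/-- The homotopy. -/
noncomputable def hom (q : ℕ) : ↥(⋀[P]^(q + 1) L) →ₗ[R] ↥(⋀[P]^q L) :=
  (bas l (q + 1)).constr R fun x =>
    if h : Good R (wt r x.1 x.2.1) then 0
    else uu p (wt r x.1 x.2.1) h •
      (monomial (ex r (wt r x.1 x.2.1) (x.2.1.erase (jj (wt r x.1 x.2.1) h))) (1 : R) •
        contr (l.coord (jj (wt r x.1 x.2.1) h)) q (E l (Set.powersetCard.ofFinEmbEquiv.symm x.2)))

open scoped Classical in
/-- The projection onto the good weights. -/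
noncomputable def proj (q : ℕ) : ↥(⋀[P]^q L) →ₗ[R] ↥(⋀[P]^q L) :=
  (bas l q).constr R fun x => if Good R (wt r x.1 x.2.1) then bas l q x else 0

omit [Module R L] [IsScalarTower R P L] in
theorem exists_eq_basic {q : ℕ} (β : Fin n →₀ ℕ) {f : Fin q → Fin n} (hf : Function.Injective f)
    (hv : Valid r β (Finset.univ.image f)) :
    ∃ (x : (Fin n →₀ ℕ) × Set.powersetCard (Fin n) q) (c : ℤ),
      mf r l β f = c • (monomial x.1 (1 : R) • E l (Set.powersetCard.ofFinEmbEquiv.symm x.2)) ∧
        E l f = c • E l (Set.powersetCard.ofFinEmbEquiv.symm x.2) ∧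
        wt r x.1 x.2.1 = β ∧ x.2.1 = Finset.univ.image f := by
  let s : Set.powersetCard (Fin n) q := ⟨Finset.univ.image f, by
    show (Finset.univ.image f).card = q
    rw [Finset.card_image_of_injective _ hf, Finset.card_univ, Fintype.card_fin]⟩
  have hs : s.1 = Finset.univ.image f := rfl
  obtain ⟨c, hc⟩ := exists_sign l hf (Set.powersetCard.ofFinEmbEquiv.symm s).injective
    (by rw [image_emb, hs])
  refine ⟨(ex r β s.1, s), c, ?_, hc, wt_ex r hv, rfl⟩
  rw [mf, hc, smul_comm, hs]

theorem hom_mf {q : ℕ} (β : Fin n →₀ ℕ) (h : ¬ Good R β) {f : Fin (q + 1) → Fin n}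
    (hf : Function.Injective f) (hv : Valid r β (Finset.univ.image f)) :
    hom r l p q (mf r l β f) = uu p β h •
      (monomial (ex r β ((Finset.univ.image f).erase (jj β h))) (1 : R) • contr (l.coord (jj β h)) q (E l f)) := by
  obtain ⟨x, c, hx, hE, hw, hs⟩ := exists_eq_basic r l β hf hv
  rw [hx, ← bas_apply, map_zsmul, hom, Module.Basis.constr_basis, dif_neg (by rwa [hw]), hE, map_zsmul,
    ← hs, smul_comm (M := P) _ c, smul_comm (M := R) _ c]
  subst hw
  rfl

theorem hom_mf_good {q : ℕ} (β : Fin n →₀ ℕ) (h : Good R β) {f : Fin (q + 1) → Fin n}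
    (hf : Function.Injective f) (hv : Valid r β (Finset.univ.image f)) : hom r l p q (mf r l β f) = 0 := by
  obtain ⟨x, c, hx, -, hw, -⟩ := exists_eq_basic r l β hf hv
  rw [hx, ← bas_apply, map_zsmul, hom, Module.Basis.constr_basis, dif_pos (by rwa [hw]), smul_zero]

open scoped Classical in
theorem proj_mf {q : ℕ} (β : Fin n →₀ ℕ) {f : Fin q → Fin n}
    (hf : Function.Injective f) (hv : Valid r β (Finset.univ.image f)) :
    proj r l q (mf r l β f) = if Good R β then mf r l β f else 0 := by
  obtain ⟨x, c, hx, -, hw, -⟩ := exists_eq_basic r l β hf hv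
  rw [hx, ← bas_apply, map_zsmul, proj, Module.Basis.constr_basis, hw]
  split_ifs
  · rfl
  · rw [smul_zero]

variable (d : ∀ q : ℕ,
    ↥(⋀[MvPolynomial (Fin n) R]^q L) →ₗ[R] ↥(⋀[MvPolynomial (Fin n) R]^(q + 1) L))
  (hd : ∀ (q : ℕ) (α : Fin n →₀ ℕ) (f : Fin q → Fin n), d q (monomial α (1 : R) • E l f) =
    ∑ i, (α i : R) • (monomial (α - Finsupp.single i (dec r i)) (1 : R) • wedge (l i) q (E l f)))

include hd

omit [Fact p.Prime] [CharP R p] in
open scoped Classical in
theorem d_mf {q : ℕ} (β : Fin n →₀ ℕ) (f : Fin q → Fin n) :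
    d q (mf r l β f) =
      ∑ i ∈ Finset.univ.filter (fun i => i ∉ Finset.univ.image f ∧ (β i : R) ≠ 0),
        (β i : R) • mf r l β (Fin.cons i f) := by
  rw [mf, hd, eq_comm]
  refine Finset.sum_subset_zero_on_sdiff (Finset.subset_univ _) ?_ fun i hi => ?_
  · intro i hi
    simp only [Finset.mem_sdiff, Finset.mem_univ, Finset.mem_filter, true_and, not_and_or, not_not] at hi
    rcases hi with hi | hi
    · rw [wedge_E, E_cons_mem l hi, smul_zero, smul_zero]
    · by_cases hmem : i ∈ Finset.univ.image f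
      · rw [wedge_E, E_cons_mem l hmem, smul_zero, smul_zero]
      · rw [ex_apply, if_neg hmem, Nat.sub_zero, hi, zero_smul]
  · obtain ⟨hmem, -⟩ := (Finset.mem_filter.1 hi).2
    rw [wedge_E, ex_apply, if_neg hmem, Nat.sub_zero, mf]
    have : ex r β (Finset.univ.image (Fin.cons i f : Fin (q + 1) → Fin n)) =
        ex r β (Finset.univ.image f) - Finsupp.single i (dec r i) := Finsupp.ext fun a => by
      rw [image_cons, Finsupp.tsub_apply, ex_apply, ex_apply]
      by_cases ha : a = i
      · subst ha; simp [hmem]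
      · simp [ha, Ne.symm ha]
    rw [this]

omit [Fact p.Prime] [CharP R p] in
theorem d_mf_good {q : ℕ} (β : Fin n →₀ ℕ) (h : Good R β) (f : Fin q → Fin n) :
    d q (mf r l β f) = 0 := by
  rw [d_mf r l d hd]
  exact Finset.sum_eq_zero fun i _ => by rw [h i, zero_smul]

theorem hom_d {q : ℕ} (β : Fin n →₀ ℕ) (h : ¬ Good R β) {f : Fin q → Fin n}
    (hf : Function.Injective f) (hv : Valid r β (Finset.univ.image f)) (hj : jj β h ∉ Finset.univ.image f) :
    hom r l p q (d q (mf r l β f)) = mf r l β f := by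
  classical
  set j := jj β h
  rw [d_mf r l d hd, map_sum, Finset.sum_eq_single_of_mem j
    (Finset.mem_filter.2 ⟨Finset.mem_univ _, hj, (not_forall.1 h).choose_spec⟩)]
  · rw [map_smul, hom_mf r l β h (Fin.cons_injective_iff.2 ⟨by simpa using hj, hf⟩), contr_E_cons l _ _ f hj,
      if_pos rfl, image_cons, Finset.erase_insert hj, smul_smul, mul_comm, uu_mul, one_smul, mf]
    rw [image_cons]
    intro a ha
    rcases Finset.mem_insert.1 ha with rfl | ha
    · exact pos_of_ne r (not_forall.1 h).choose_spec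
    · exact hv a ha
  · intro i hi hne
    obtain ⟨hmem, hne0⟩ := (Finset.mem_filter.1 hi).2
    rw [map_smul, hom_mf r l β h (Fin.cons_injective_iff.2 ⟨by simpa using hmem, hf⟩), contr_E_cons l _ _ f hj,
      if_neg hne, smul_zero, smul_zero, smul_zero]
    rw [image_cons]
    intro a ha
    rcases Finset.mem_insert.1 ha with rfl | ha
    · exact pos_of_ne r hne0
    · exact hv a ha

open scoped Classical in
theorem homotopy_mf {q : ℕ} (β : Fin n →₀ ℕ) {f : Fin (q + 1) → Fin n} (hf : Function.Injective f)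
    (hv : Valid r β (Finset.univ.image f)) :
    d q (hom r l p q (mf r l β f)) + hom r l p (q + 1) (d (q + 1) (mf r l β f)) +
      proj r l (q + 1) (mf r l β f) = mf r l β f := by
  rw [proj_mf r l β hf hv]
  by_cases h : Good R β
  · rw [hom_mf_good r l β h hf hv, d_mf_good r l d hd β h, if_pos h, map_zero, map_zero, zero_add, zero_add]
  rw [if_neg h, add_zero, hom_mf r l β h hf hv]
  set j := jj β h with hjdef
  by_cases hj : j ∈ Finset.univ.image f
  swap
  · rw [contr_E_of_notMem l j f hj, smul_zero, smul_zero, map_zero, zero_add, hom_d r l d hd β h hf hv hj]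
  let g : Fin q → Fin n := fun a => (((Finset.univ.image f).erase j).orderEmbOfFin
    (k := q) (by rw [Finset.card_erase_of_mem hj, Finset.card_image_of_injective _ hf]; simp) a)
  have hg : Finset.univ.image g = (Finset.univ.image f).erase j := Finset.image_orderEmbOfFin_univ _ _
  have hgj : j ∉ Finset.univ.image g := by rw [hg]; simp
  have hgi : Function.Injective g := (Finset.orderEmbOfFin _ _).injective
  have hci : Function.Injective (Fin.cons j g : Fin (q + 1) → Fin n) :=
    Fin.cons_injective_iff.2 ⟨by simpa using hgj, hgi⟩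
  have him : Finset.univ.image f = Finset.univ.image (Fin.cons j g : Fin (q + 1) → Fin n) := by
    rw [image_cons, hg, Finset.insert_erase hj]
  obtain ⟨c, hc⟩ := exists_sign l hf hci him
  have hmf : mf r l β f = c • mf r l β (Fin.cons j g) := by
    rw [mf, mf, hc, him, smul_comm]
  have hleft : uu p β h • (monomial (ex r β ((Finset.univ.image f).erase j)) (1 : R) •
      contr (l.coord j) q (E l f)) = c • uu p β h • mf r l β g := by
    rw [← hg, hc, map_zsmul, contr_E_cons l _ _ g hgj, if_pos rfl, smul_comm (M := P) _ c, smul_comm, mf]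
  rw [hleft, hmf, map_zsmul, map_zsmul, map_zsmul, ← smul_add, map_smul]
  congr 1
  have hv' : Valid r β (Finset.univ.image (Fin.cons j g : Fin (q + 1) → Fin n)) := him ▸ hv
  rw [d_mf r l d hd, d_mf r l d hd, map_sum, Finset.smul_sum]
  have hjm : j ∈ Finset.univ.filter (fun i => i ∉ Finset.univ.image g ∧ (β i : R) ≠ 0) :=
    Finset.mem_filter.2 ⟨Finset.mem_univ _, hgj, (not_forall.1 h).choose_spec⟩
  rw [← Finset.sum_erase_add _ _ hjm, smul_smul, uu_mul, one_smul, add_comm (Finset.sum _ _) (mf r l β _),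
    add_assoc, add_eq_left]
  have hset : (Finset.univ.filter (fun i => i ∉ Finset.univ.image g ∧ (β i : R) ≠ 0)).erase j =
      Finset.univ.filter (fun i => i ∉ Finset.univ.image (Fin.cons j g : Fin (q + 1) → Fin n) ∧ (β i : R) ≠ 0) := by
    ext i
    simp only [Finset.mem_erase, Finset.mem_filter, Finset.mem_univ, true_and, image_cons, Finset.mem_insert]
    tauto
  rw [hset, ← Finset.sum_add_distrib]
  refine Finset.sum_eq_zero fun i hi => ?_
  obtain ⟨hmem, hne0⟩ := (Finset.mem_filter.1 hi).2
  have hij : i ≠ j := fun e => hmem (by rw [image_cons, e]; exact Finset.mem_insert_self _ _)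
  rw [image_cons, Finset.mem_insert, not_or] at hmem
  rw [map_smul, hom_mf r l β h (Fin.cons_injective_iff.2 ⟨by simpa [image_cons, hij] using hmem.2, hci⟩)]
  · have hcon : contr (l.coord j) (q + 1) (E l (Fin.cons i (Fin.cons j g : Fin (q + 1) → Fin n))) =
        - E l (Fin.cons i g) := by
      rw [← wedge_E, contr_wedge_succ, contr_E_cons l _ _ g hgj, if_pos rfl, wedge_E,
        Module.Basis.coord_apply, Module.Basis.repr_self, Finsupp.single_eq_of_ne (Ne.symm hij), zero_smul, zero_sub]
    rw [← hjdef, hcon]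
    have hex : ((Finset.univ.image (Fin.cons i (Fin.cons j g) : Fin (q + 2) → Fin n)).erase j) =
        Finset.univ.image (Fin.cons i g : Fin (q + 1) → Fin n) := by
      rw [image_cons, image_cons, image_cons, Finset.erase_insert_of_ne hij, Finset.erase_insert hgj]
    rw [hex, smul_neg, smul_neg, smul_neg, smul_comm (uu p β h), mf, add_neg_cancel]
  · rw [image_cons]
    intro a ha
    rcases Finset.mem_insert.1 ha with rfl | ha
    · exact pos_of_ne r hne0
    · exact hv' a ha

theorem homotopy {q : ℕ} (ω : ↥(⋀[P]^(q + 1) L)) :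
    d q (hom r l p q ω) + hom r l p (q + 1) (d (q + 1) ω) + proj r l (q + 1) ω = ω := by
  have h : (d q).comp (hom r l p q) + (hom r l p (q + 1)).comp (d (q + 1)) + proj r l (q + 1) = LinearMap.id :=
    (bas l (q + 1)).ext fun x => by
      simp only [LinearMap.add_apply, LinearMap.comp_apply, LinearMap.id_apply]
      rw [bas_eq_mf r l x]
      exact homotopy_mf r l d hd _ (Set.powersetCard.ofFinEmbEquiv.symm x.2).injective
        (by rw [image_emb]; exact valid_wt r x.1 x.2.1)
  exact LinearMap.congr_fun h ω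

theorem homotopy_zero (ω : ↥(⋀[P]^0 L)) : hom r l p 0 (d 0 ω) + proj r l 0 ω = ω := by
  classical
  have h : (hom r l p 0).comp (d 0) + proj r l 0 = LinearMap.id :=
    (bas l 0).ext fun x => by
      simp only [LinearMap.add_apply, LinearMap.comp_apply, LinearMap.id_apply]
      rw [bas_eq_mf r l x]
      have hv : Valid r (wt r x.1 x.2.1) (Finset.univ.image (Set.powersetCard.ofFinEmbEquiv.symm x.2)) := by
        rw [image_emb]; exact valid_wt r x.1 x.2.1
      rw [proj_mf r l _ (Set.powersetCard.ofFinEmbEquiv.symm x.2).injective hv]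
      by_cases h : Good R (wt r x.1 x.2.1)
      · rw [d_mf_good r l d hd _ h, if_pos h, map_zero, zero_add]
      · rw [if_neg h, add_zero]
        refine hom_d r l d hd _ h (Set.powersetCard.ofFinEmbEquiv.symm x.2).injective hv ?_
        simp
  exact LinearMap.congr_fun h ω

omit [Fact p.Prime] [CharP R p] in
theorem proj_d {q : ℕ} (ω : ↥(⋀[P]^q L)) : proj r l (q + 1) (d q ω) = 0 := by
  classical
  have h : (proj r l (q + 1)).comp (d q) = 0 := (bas l q).ext fun x => by
    rw [LinearMap.comp_apply, LinearMap.zero_apply, bas_eq_mf r l x, d_mf r l d hd, map_sum]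
    refine Finset.sum_eq_zero fun i hi => ?_
    obtain ⟨hmem, hne⟩ := (Finset.mem_filter.1 hi).2
    rw [map_smul, proj_mf r l _ (Fin.cons_injective_iff.2
      ⟨by simpa using hmem, (Set.powersetCard.ofFinEmbEquiv.symm x.2).injective⟩),
      if_neg fun h => hne (h i), smul_zero]
    rw [image_cons]
    intro a ha
    rcases Finset.mem_insert.1 ha with rfl | ha
    · exact pos_of_ne r hne
    · exact valid_wt r x.1 x.2.1 a (by rwa [image_emb] at ha)
  exact LinearMap.congr_fun h ω

end Groth.Agent.DR29.LogCartier
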