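import Groth.Agent.DR29.LogCartier
import Groth.Agent.DR29.Basic
import Groth.Prelude.Def_LogDiff
import Mathlib.RingTheory.Kaehler.Polynomial
import Mathlib.Algebra.MvPolynomial.PDeriv
import Mathlib.Algebra.CharP.Lemmas

/-! Logarithmic forms on affine space. -/

set_option autoImplicit false

universe u

open exteriorPower MvPolynomial

namespace Groth.Agent.DR29.LogMv

variable {R : Type u} [CommRing R] {n r : ℕ} (hr : r ≤ n)
  {L : Type u} [AddCommGroup L] [Module (MvPolynomial (Fin n) R) L]
  (ι : (Ω[MvPolynomial (Fin n) R⁄R]) →ₗ[MvPolynomial (Fin n) R] L) (dl : Fin r → L)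

/-- The basic forms. -/
noncomputable def vec (i : Fin n) : L :=
  if h : r ≤ i.1 then ι (KaehlerDifferential.D R (MvPolynomial (Fin n) R) (X i)) else dl ⟨i.1, by omega⟩

variable (R r) in
/-- Their denominators. -/
noncomputable def den (i : Fin n) : MvPolynomial (Fin n) R := if r ≤ i.1 then 1 else X i

variable (hL : LogDiff.IsLog (KaehlerDifferential.D R (MvPolynomial (Fin n) R))
  (fun i : Fin r => (MvPolynomial.X (Fin.castLE hr i) : MvPolynomial (Fin n) R)) ι dl)

include hL

theorem den_smul_vec (i : Fin n) :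
    den R r i • vec ι dl i = ι (KaehlerDifferential.D R (MvPolynomial (Fin n) R) (X i)) := by
  unfold den vec
  split_ifs with h
  · rw [one_smul]
  · exact hL.1 ⟨i.1, by omega⟩

theorem linearIndependent_vec : LinearIndependent (MvPolynomial (Fin n) R) (vec ι dl) := by
  classical
  rw [Fintype.linearIndependent_iff]
  intro c hc
  let Q : Fin n → MvPolynomial (Fin n) R := fun i => ∏ j ∈ Finset.univ.erase i, den R r j
  have h1 : ι (∑ i, (c i * Q i) • KaehlerDifferential.D R (MvPolynomial (Fin n) R) (X i)) = 0 := by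
    rw [map_sum]
    have : ∀ i, ι ((c i * Q i) • KaehlerDifferential.D R (MvPolynomial (Fin n) R) (X i)) =
        (∏ j, den R r j) • (c i • vec ι dl i) := fun i => by
      rw [map_smul, ← den_smul_vec hr ι dl hL i, smul_smul, smul_smul, mul_assoc,
        Finset.prod_erase_mul _ _ (Finset.mem_univ i), mul_comm]
    simp only [this, ← Finset.smul_sum, hc, smul_zero]
  obtain ⟨N, hN⟩ := (hL.2.2.2 _).1 h1
  intro i
  have h2 := congrArg (fun ω => (KaehlerDifferential.mvPolynomialBasis R (Fin n)).repr ω i) hN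
  simp only [map_smul, map_sum, map_zero, Finsupp.smul_apply, Finsupp.coe_finsetSum, Finset.sum_apply,
    Finsupp.coe_zero, Pi.zero_apply, smul_eq_mul] at h2
  rw [Finset.sum_eq_single i] at h2
  · rw [← KaehlerDifferential.mvPolynomialBasis_apply, Module.Basis.repr_self, Finsupp.single_eq_same,
      mul_one, mul_comm (c i), ← mul_assoc] at h2
    have hreg : IsRegular ((∏ j : Fin r, (X (Fin.castLE hr j) : MvPolynomial (Fin n) R)) ^ N * Q i) :=
      ((IsRegular.prod fun j _ => MvPolynomial.isRegular_X).pow N).mul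
        (IsRegular.prod fun j _ => by
          unfold den
          split_ifs
          exacts [isRegular_one, MvPolynomial.isRegular_X])
    exact hreg.left (by simpa using h2)
  · intro j _ hji
    rw [← KaehlerDifferential.mvPolynomialBasis_apply, Module.Basis.repr_self,
      Finsupp.single_eq_of_ne hji.symm, mul_zero]
  · simp

theorem span_vec : ⊤ ≤ Submodule.span (MvPolynomial (Fin n) R) (Set.range (vec ι dl)) := by
  rw [← hL.2.1, Submodule.span_le]
  rintro _ (⟨ω, rfl⟩ | ⟨j, rfl⟩)
  · rw [SetLike.mem_coe, ← (KaehlerDifferential.mvPolynomialBasis R (Fin n)).sum_repr ω, map_sum]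
    refine Submodule.sum_mem _ fun i _ => ?_
    rw [map_smul, KaehlerDifferential.mvPolynomialBasis_apply, ← den_smul_vec hr ι dl hL i, smul_smul]
    exact Submodule.smul_mem _ _ (Submodule.subset_span ⟨i, rfl⟩)
  · refine Submodule.subset_span ⟨Fin.castLE hr j, ?_⟩
    unfold vec
    rw [dif_neg (by simp)]
    rfl

/-- The basis of log forms. -/
noncomputable def basis : Module.Basis (Fin n) (MvPolynomial (Fin n) R) L :=
  Module.Basis.mk (linearIndependent_vec hr ι dl hL) (span_vec hr ι dl hL)

theorem basis_apply (i : Fin n) : basis hr ι dl hL i = vec ι dl i := Module.Basis.mk_apply _ _ i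

theorem iota_D_monomial (α : Fin n →₀ ℕ) :
    ι (KaehlerDifferential.D R (MvPolynomial (Fin n) R) (monomial α 1)) =
      ∑ i, (monomial (α - Finsupp.single i (LogCartier.dec r i)) (α i : R)) • basis hr ι dl hL i := by
  classical
  rw [← (KaehlerDifferential.mvPolynomialBasis R (Fin n)).sum_repr
    (KaehlerDifferential.D R (MvPolynomial (Fin n) R) (monomial α 1)), map_sum]
  refine Finset.sum_congr rfl fun i _ => ?_
  have hp : (KaehlerDifferential.mvPolynomialBasis R (Fin n)).repr
      (KaehlerDifferential.D R (MvPolynomial (Fin n) R) (monomial α 1)) i = pderiv i (monomial α (1 : R)) := by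
    have h : (Finsupp.lapply i ∘ₗ (KaehlerDifferential.mvPolynomialBasis R (Fin n)).repr.toLinearMap).compDer
        (KaehlerDifferential.D R (MvPolynomial (Fin n) R)) = pderiv i :=
      MvPolynomial.derivation_ext fun j => by
        simp [pderiv_X, KaehlerDifferential.mvPolynomialBasis_repr_D, Pi.single_apply, Finsupp.single_apply, eq_comm]
    exact Derivation.congr_fun h _
  rw [map_smul, KaehlerDifferential.mvPolynomialBasis_apply, ← den_smul_vec hr ι dl hL i, smul_smul, hp,
    pderiv_monomial, one_mul, basis_apply]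
  congr 1
  unfold den LogCartier.dec
  split_ifs with h
  · rw [mul_one]
  · by_cases h0 : α i = 0
    · simp [h0]
    · rw [X, monomial_mul, mul_one, Finsupp.single_zero, tsub_zero,
        tsub_add_cancel_of_le (Finsupp.single_le_iff.2 (Nat.pos_of_ne_zero h0))]

variable [Module R L] [IsScalarTower R (MvPolynomial (Fin n) R) L]
  (d : ∀ q : ℕ, ↥(⋀[MvPolynomial (Fin n) R]^q L) →ₗ[R] ↥(⋀[MvPolynomial (Fin n) R]^(q + 1) L))
  (hlog : LogDiff.IsLogRule (KaehlerDifferential.D R (MvPolynomial (Fin n) R)) ι dl d)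

include hlog

theorem d_monomial (q : ℕ) (α : Fin n →₀ ℕ) (f : Fin q → Fin n) :
    d q (monomial α (1 : R) • LogCartier.E (basis hr ι dl hL) f) =
      ∑ i, (α i : R) • (monomial (α - Finsupp.single i (LogCartier.dec r i)) (1 : R) •
        wedge (basis hr ι dl hL i) q (LogCartier.E (basis hr ι dl hL) f)) := by
  rw [LogCartier.E, hlog q _ _ fun a => by
    rw [basis_apply, vec]
    split_ifs
    exacts [Or.inl ⟨_, rfl⟩, Or.inr ⟨_, rfl⟩], ← wedge_iMulti, iota_D_monomial hr ι dl hL]
  have hlin : ∀ (v : Fin n → L) (c : Fin n → MvPolynomial (Fin n) R)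
      (x : ↥(⋀[MvPolynomial (Fin n) R]^q L)),
      wedge (∑ i, c i • v i) q x = ∑ i, c i • wedge (v i) q x := by
    intro v c x
    induction (Finset.univ : Finset (Fin n)) using Finset.induction_on with
    | empty => simp [wedge_zero_left]
    | insert a s ha ih => rw [Finset.sum_insert ha, Finset.sum_insert ha, wedge_add_left, wedge_smul_left, ih]
  rw [hlin]
  refine Finset.sum_congr rfl fun i _ => ?_
  rw [← smul_assoc, smul_monomial, smul_eq_mul, mul_one]

section Frob

variable (p : ℕ) [Fact p.Prime] [CharP R p]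

variable (r) in
/-- The exponent of `w_s`. -/
noncomputable def gam (s : Finset (Fin n)) : Fin n →₀ ℕ :=
  Finsupp.equivFunOnFinite.symm fun i => if i ∈ s then LogCartier.dec r i * (p - 1) else 0

omit [Fact p.Prime] [CharP R p] hL hlog [Module R L] [IsScalarTower R (MvPolynomial (Fin n) R) L] in
theorem wt_pow (γ : Fin n →₀ ℕ) (s : Finset (Fin n)) (i : Fin n) (hp : 1 ≤ p) :
    LogCartier.wt r (p • γ + gam r p s) s i = p * (γ i + if i ∈ s then LogCartier.dec r i else 0) := by
  rw [LogCartier.wt_apply, Finsupp.add_apply, Finsupp.smul_apply, smul_eq_mul]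
  show _ + (if i ∈ s then LogCartier.dec r i * (p - 1) else 0) + _ = _
  unfold LogCartier.dec
  split_ifs <;> simp [mul_add, add_assoc]
  omega

omit [Fact p.Prime] hL hlog [Module R L] [IsScalarTower R (MvPolynomial (Fin n) R) L] in
theorem exists_good [hp' : Fact p.Prime] (α : Fin n →₀ ℕ) (s : Finset (Fin n))
    (h : LogCartier.Good R (LogCartier.wt r α s)) : ∃ γ : Fin n →₀ ℕ, α = p • γ + gam r p s := by
  have hp := hp'.out.two_le
  refine ⟨Finsupp.equivFunOnFinite.symm fun i => α i / p, Finsupp.ext fun i => ?_⟩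
  have hd : p ∣ LogCartier.wt r α s i := (CharP.cast_eq_zero_iff R p _).1 (h i)
  rw [LogCartier.wt_apply] at hd
  obtain ⟨k, hk⟩ := hd
  rw [Finsupp.add_apply, Finsupp.smul_apply, smul_eq_mul]
  show α i = p * (α i / p) + (if i ∈ s then LogCartier.dec r i * (p - 1) else 0)
  unfold LogCartier.dec at hk ⊢
  by_cases hi : i ∈ s ∧ r ≤ i.1
  · simp only [hi.1, hi.2, if_true] at hk ⊢
    obtain ⟨k, rfl⟩ : ∃ m, k = m + 1 := ⟨k - 1, by
      rcases Nat.eq_zero_or_pos k with rfl | hk0
      · simp at hk
      · omega⟩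
    have hα : α i = p * k + (p - 1) := by rw [Nat.mul_succ] at hk; omega
    rw [hα, Nat.mul_add_div (by omega), Nat.div_eq_of_lt (show p - 1 < p by omega), add_zero, one_mul]
  · have : (if i ∈ s then (if r ≤ i.1 then 1 else 0) else 0) = 0 := by
      by_cases h1 : i ∈ s <;> simp_all
    rw [this, add_zero] at hk
    have h2 : (if i ∈ s then (if r ≤ i.1 then 1 else 0) * (p - 1) else 0) = 0 := by
      by_cases h1 : i ∈ s <;> simp_all
    rw [h2, hk, Nat.mul_div_cancel_left _ (by omega), add_zero]

variable (w : Fin n → L) (hw : ∀ i : Fin r, w (Fin.castLE hr i) = dl i)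
  (hw' : ∀ ν : Fin n, r ≤ (ν : ℕ) → w ν = ι (((X ν : MvPolynomial (Fin n) R) ^ (p - 1)) •
    KaehlerDifferential.D R (MvPolynomial (Fin n) R) (X ν)))

include hw hw'

theorem w_eq (i : Fin n) :
    w i = monomial (Finsupp.single i (LogCartier.dec r i * (p - 1))) (1 : R) • basis hr ι dl hL i := by
  rw [basis_apply, vec, LogCartier.dec]
  split_ifs with h
  · rw [hw' i h, map_smul, one_mul, X_pow_eq_monomial]
  · rw [zero_mul, Finsupp.single_zero, show (monomial (0 : Fin n →₀ ℕ) (1 : R)) = 1 from rfl, one_smul]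
    exact hw ⟨i.1, by omega⟩

theorem e_eq {a : ℕ} (s : Finset (Fin n)) (hs : s.card = a) :
    ιMulti (MvPolynomial (Fin n) R) a (fun j => w (s.orderEmbOfFin hs j)) =
      monomial (gam r p s) (1 : R) • LogCartier.E (basis hr ι dl hL) (s.orderEmbOfFin hs) := by
  classical
  simp only [w_eq hr ι dl hL d hlog p w hw hw']
  rw [AlternatingMap.map_smul_univ, LogCartier.E]
  congr 1
  rw [← monomial_sum_one]
  congr 1
  congr 1
  ext i
  rw [Finsupp.finsetSum_apply]
  show _ = if i ∈ s then _ else _
  split_ifs with hi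
  · obtain ⟨j, rfl⟩ : i ∈ Set.range (s.orderEmbOfFin hs) := by rw [Finset.range_orderEmbOfFin]; exact hi
    rw [Finset.sum_eq_single j]
    · simp
    · intro b _ hb
      exact Finsupp.single_eq_of_ne fun e => hb ((s.orderEmbOfFin hs).injective e).symm
    · simp
  · refine Finset.sum_eq_zero fun b _ => Finsupp.single_eq_of_ne fun e => hi ?_
    rw [e]; exact Finset.orderEmbOfFin_mem s hs b

end Frob

end Groth.Agent.DR29.LogMv
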