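import Mathlib.RingTheory.Kaehler.Basic
import Mathlib.Algebra.MvPolynomial.Eval
import Mathlib.RingTheory.Derivation.MapCoeffs
import Mathlib.Algebra.Polynomial.Derivation
import Mathlib.RingTheory.Ideal.Quotient.Operations
import Mathlib.Algebra.DualNumber

/-! The node `k[X,Y]/(XY)`: kernel of the differential, and a nonexact one-form. -/

set_option autoImplicit false

universe u

open MvPolynomial

namespace Groth.Agent.DR29

variable (k : Type u) [Field k]

local notation "NodeRing" => MvPolynomial (Fin 2) k ⧸ Ideal.span {(X 0 * X 1 : MvPolynomial (Fin 2) k)}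

/-- lift of an assignment killing XY -/
noncomputable def nodeLift {B : Type u} [CommRing B] [Algebra k B] (v : Fin 2 → B) (h : v 0 * v 1 = 0) :
    NodeRing →ₐ[k] B :=
  Ideal.Quotient.liftₐ _ (aeval v) fun a ha => by
    obtain ⟨c, rfl⟩ := Ideal.mem_span_singleton'.mp ha
    simp [h]

theorem nodeLift_mk {B : Type u} [CommRing B] [Algebra k B] (v : Fin 2 → B) (h : v 0 * v 1 = 0)
    (q : MvPolynomial (Fin 2) k) :
    nodeLift k v h (Ideal.Quotient.mk _ q) = aeval v q := rfl

/-- restriction to the axis `i` -/
noncomputable def axis (i : Fin 2) : NodeRing →ₐ[k] Polynomial k :=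
  nodeLift k (fun j => if j = i then Polynomial.X else 0) (by fin_cases i <;> simp)

theorem coeff_axis (i : Fin 2) (q : MvPolynomial (Fin 2) k) (n : ℕ) :
    (axis k i (Ideal.Quotient.mk _ q)).coeff n = q.coeff (Finsupp.single i n) := by
  rw [axis, nodeLift_mk]
  induction q using MvPolynomial.induction_on' with
  | add p q hp hq => simp [hp, hq]
  | monomial m a =>
    rw [aeval_monomial, Finsupp.prod_fintype _ _ (fun _ => pow_zero _), Fin.prod_univ_two,
      coeff_monomial, Polynomial.algebraMap_eq]
    fin_cases i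
    · by_cases h1 : m 1 = 0
      · have hm : m = Finsupp.single 0 (m 0) := by
          ext j; fin_cases j <;> simp [h1]
        simp only [Fin.zero_eta, if_true, Fin.one_eq_zero_iff, OfNat.ofNat_ne_one, if_false, h1,
          pow_zero, mul_one, Polynomial.coeff_C_mul_X_pow]
        conv_rhs => rw [hm]
        simp [Finsupp.single_eq_single_iff, eq_comm]
        grind
      · have hm : m ≠ Finsupp.single 0 n := fun h => h1 (by simp [h])
        simp [h1, hm]
    · by_cases h1 : m 0 = 0
      · have hm : m = Finsupp.single 1 (m 1) := by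
          ext j; fin_cases j <;> simp [h1]
        simp only [Fin.mk_one, if_true, Fin.zero_eq_one_iff, OfNat.ofNat_ne_one, if_false, h1,
          pow_zero, one_mul, Polynomial.coeff_C_mul_X_pow]
        conv_rhs => rw [hm]
        simp [Finsupp.single_eq_single_iff, eq_comm]
        grind
      · have hm : m ≠ Finsupp.single 1 n := fun h => h1 (by simp [h])
        simp [h1, hm]

theorem eq_zero_of_axis (P : NodeRing) (h : ∀ i, axis k i P = 0) : P = 0 := by
  classical
  obtain ⟨q, rfl⟩ := Ideal.Quotient.mk_surjective P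
  rw [Ideal.Quotient.eq_zero_iff_mem, q.as_sum]
  refine sum_mem fun m hm => ?_
  rw [Ideal.mem_span_singleton]
  have hne : ∀ i j : Fin 2, i ≠ j → m j ≠ 0 := by
    intro i j hij h0
    have e : m = Finsupp.single i (m i) := by
      ext l
      rcases eq_or_ne l i with rfl | hl
      · simp
      · rw [Finsupp.single_eq_of_ne hl, show l = j by omega, h0]
    have := coeff_axis k i q (m i)
    rw [h i, Polynomial.coeff_zero, ← e] at this
    exact mem_support_iff.mp hm this.symm
  have h0 := hne 1 0 (by simp)
  have h1 := hne 0 1 (by simp)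
  refine ⟨monomial (m - Finsupp.single 0 1 - Finsupp.single 1 1) (q.coeff m), ?_⟩
  rw [X, X, monomial_mul, monomial_mul, one_mul, one_mul]
  congr 2
  ext j
  fin_cases j <;> simp <;> omega

/-- derivative along the axis `i`, applied to a one-form -/
theorem axis_derivative_eq [CharZero k] (i : Fin 2) (P : NodeRing)
    (h : ∀ (δ : NodeRing → Polynomial k),
      (∀ Q, δ Q = Polynomial.derivative (axis k i Q)) → δ P = 0) :
    axis k i P = Polynomial.C ((axis k i P).coeff 0) :=
  Polynomial.eq_C_of_derivative_eq_zero (h _ fun _ => rfl)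

/-- the axis functional on one-forms -/
theorem exists_axisForm (i : Fin 2) :
    ∃ L : Ω[NodeRing⁄k] →+ Polynomial k,
      (∀ Q, L (KaehlerDifferential.D k NodeRing Q) = Polynomial.derivative (axis k i Q)) ∧
      ∀ a Q, L (a • KaehlerDifferential.D k NodeRing Q) = axis k i a * Polynomial.derivative (axis k i Q) := by
  letI : Algebra NodeRing (Polynomial k) := (axis k i).toRingHom.toAlgebra
  haveI : IsScalarTower k NodeRing (Polynomial k) :=
    IsScalarTower.of_algebraMap_eq fun c => ((axis k i).commutes c).symm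
  let δ : Derivation k NodeRing (Polynomial k) := Polynomial.derivative'.compAlgebraMap NodeRing
  refine ⟨δ.liftKaehlerDifferential.toAddMonoidHom, fun Q => ?_, fun a Q => ?_⟩
  · exact Derivation.liftKaehlerDifferential_comp_D δ Q
  rw [LinearMap.toAddMonoidHom_coe, map_smul, Derivation.liftKaehlerDifferential_comp_D, Algebra.smul_def]
  rfl

theorem mem_range_of_forall_axis [CharZero k] (P : NodeRing)
    (h : ∀ i, Polynomial.derivative (axis k i P) = 0) : P ∈ Set.range (algebraMap k NodeRing) := by
  refine ⟨(axis k 0 P).coeff 0, (sub_eq_zero.mp (eq_zero_of_axis k _ fun i => ?_)).symm⟩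
  rw [map_sub, AlgHom.commutes, Polynomial.algebraMap_eq, Polynomial.eq_C_of_derivative_eq_zero (h i),
    sub_eq_zero]
  congr 1
  obtain ⟨q, rfl⟩ := Ideal.Quotient.mk_surjective P
  simp [coeff_axis]

theorem X_smul_D_ne_zero :
    (Ideal.Quotient.mk _ (X 0) : NodeRing) • KaehlerDifferential.D k NodeRing (Ideal.Quotient.mk _ (X 1)) ≠ 0 := by
  let e : DualNumber k := DualNumber.eps
  let v : Fin 2 → TrivSqZeroExt (DualNumber k) (DualNumber k) :=
    ![TrivSqZeroExt.inl e + TrivSqZeroExt.inr (-1), TrivSqZeroExt.inl e + TrivSqZeroExt.inr 1]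
  have hv : v 0 * v 1 = 0 := by
    refine TrivSqZeroExt.ext ?_ ?_
    · simp [v, e, DualNumber.eps_mul_eps]
    · simp [v, e, smul_eq_mul]
  let ψ := nodeLift k v hv
  let φ : NodeRing →ₐ[k] DualNumber k :=
    ((TrivSqZeroExt.fstHom (DualNumber k) (DualNumber k) (DualNumber k)).restrictScalars k).comp ψ
  letI : Algebra NodeRing (DualNumber k) := φ.toRingHom.toAlgebra
  haveI : IsScalarTower k NodeRing (DualNumber k) :=
    IsScalarTower.of_algebraMap_eq fun c => (φ.commutes c).symm
  let δ : Derivation k NodeRing (DualNumber k) := Derivation.mk'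
    { toFun := fun a => (ψ a).snd
      map_add' := fun a b => by simp
      map_smul' := fun c a => by simp [map_smul] }
    fun a b => by
      show (ψ (a * b)).snd = φ a * (ψ b).snd + φ b * (ψ a).snd
      rw [map_mul, TrivSqZeroExt.snd_mul]
      simp only [op_smul_eq_smul, smul_eq_mul]
      rfl
  intro h
  have h1 := congrArg δ.liftKaehlerDifferential h
  rw [map_smul, Derivation.liftKaehlerDifferential_comp_D, map_zero] at h1
  have h2 : (ψ (Ideal.Quotient.mk _ (X 1))).snd = 1 := by simp [ψ, nodeLift_mk, v, e]
  have h3 : φ (Ideal.Quotient.mk _ (X 0)) = e := by simp [φ, ψ, nodeLift_mk, v, e]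
  change φ _ * (ψ _).snd = 0 at h1
  rw [h2, h3, mul_one] at h1
  have h4 := congrArg TrivSqZeroExt.snd h1
  simp [e] at h4

end Groth.Agent.DR29
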