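import Groth.Agent.DR29.Basic
import Mathlib.LinearAlgebra.Isomorphisms

/-! The de Rham differential of a quotient receptacle. -/

set_option autoImplicit false

universe v u u'

open exteriorPower

namespace Groth.Agent.DR29

section Kernel

variable {A : Type u} {M : Type v} {M' : Type u'} [CommRing A] [AddCommGroup M] [Module A M]
  [AddCommGroup M'] [Module A M']

/-- The span of the wedges with one entry in the kernel. -/
def kerWedge (π : M →ₗ[A] M') (n : ℕ) : Submodule A ↥(⋀[A]^n M) :=
  Submodule.span A {x | ∃ v : Fin n → M, (∃ i, π (v i) = 0) ∧ ιMulti A n v = x}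

theorem iMulti_congr_mod (π : M →ₗ[A] M') {n : ℕ} (v v' : Fin n → M) (h : ∀ i, π (v i) = π (v' i)) :
    ιMulti A n v' - ιMulti A n v ∈ kerWedge π n := by
  suffices ∀ s : Finset (Fin n), ιMulti A n (s.piecewise v' v) - ιMulti A n v ∈ kerWedge π n by
    simpa using this Finset.univ
  intro s
  induction s using Finset.induction_on with
  | empty => simp
  | insert i s hi ih =>
    rw [Finset.piecewise_insert]
    set w := s.piecewise v' v with hw
    have hwi : Function.update w i (v i) = w :=
      Function.update_eq_self_iff.mpr (by rw [hw, Finset.piecewise_eq_of_notMem _ _ _ hi])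
    have hd : ιMulti A n (Function.update w i (v' i)) - ιMulti A n (Function.update w i (v i)) ∈
        kerWedge π n := by
      rw [← AlternatingMap.map_update_sub]
      refine Submodule.subset_span ⟨_, ⟨i, ?_⟩, rfl⟩
      rw [Function.update_self, map_sub, h, sub_self]
    rw [hwi] at hd
    simpa using add_mem hd ih

theorem ker_map_le (π : M →ₗ[A] M') (hπ : Function.Surjective π) (n : ℕ) :
    LinearMap.ker (exteriorPower.map n π) ≤ kerWedge π n := by
  choose s hs using hπ
  have key : ∀ (v : Fin n → M), (kerWedge π n).mkQ (ιMulti A n (fun i => s (π (v i)))) =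
      (kerWedge π n).mkQ (ιMulti A n v) := fun v =>
    (Submodule.Quotient.eq _).mpr (iMulti_congr_mod π v _ fun i => (hs _).symm)
  let g : M' [⋀^Fin n]→ₗ[A] (↥(⋀[A]^n M) ⧸ kerWedge π n) :=
    { toFun := fun m => (kerWedge π n).mkQ (ιMulti A n (fun i => s (m i)))
      map_update_add' := fun {inst} m i x y => by
        cases Subsingleton.elim inst (instDecidableEqFin n)
        have e : ∀ z : M', (fun j => s (Function.update m i z j)) =
            Function.update (fun j => s (m j)) i (s z) := fun z => by
          funext j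
          exact (Function.apply_update (fun _ => s) m i z j)
        rw [e, e, e, ← map_add, ← AlternatingMap.map_update_add, Submodule.mkQ_apply,
          Submodule.mkQ_apply, Submodule.Quotient.eq]
        refine iMulti_congr_mod π _ _ fun j => ?_
        rcases eq_or_ne j i with rfl | hj
        · simp [hs]
        · simp [hj]
      map_update_smul' := fun {inst} m i c x => by
        cases Subsingleton.elim inst (instDecidableEqFin n)
        have e : ∀ z : M', (fun j => s (Function.update m i z j)) =
            Function.update (fun j => s (m j)) i (s z) := fun z => by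
          funext j
          exact (Function.apply_update (fun _ => s) m i z j)
        rw [e, e, ← map_smul, ← AlternatingMap.map_update_smul, Submodule.mkQ_apply,
          Submodule.mkQ_apply, Submodule.Quotient.eq]
        refine iMulti_congr_mod π _ _ fun j => ?_
        rcases eq_or_ne j i with rfl | hj
        · simp [hs]
        · simp [hj]
      map_eq_zero_of_eq' := fun m i j h hij => by
        rw [(ιMulti A n).map_eq_zero_of_eq _ (show s (m i) = s (m j) by rw [h]) hij, map_zero] }
  have hcomp : (alternatingMapLinearEquiv g).comp (exteriorPower.map n π) = (kerWedge π n).mkQ :=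
    linearMap_ext (AlternatingMap.ext fun v => by
      simp only [LinearMap.compAlternatingMap_apply, LinearMap.comp_apply, map_apply_ιMulti,
        alternatingMapLinearEquiv_apply_ιMulti]
      exact key v)
  intro x hx
  rw [← Submodule.Quotient.mk_eq_zero, ← Submodule.mkQ_apply, ← hcomp, LinearMap.comp_apply,
    LinearMap.mem_ker.mp hx, map_zero]

end Kernel

section Leibniz

variable {R : Type v} {A M : Type u} [CommRing R] [CommRing A] [Algebra R A]
  [AddCommGroup M] [Module A M] [Module R M] [IsScalarTower R A M] {δ : Derivation R A M}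
  {d : ∀ p : ℕ, ↥(⋀[A]^p M) →ₗ[R] ↥(⋀[A]^(p + 1) M)}

omit [Algebra R A] [Module R M] [IsScalarTower R A M] in
theorem coe_cons (q : ℕ) (x : M) (v : Fin q → M) :
    (ιMulti A (q + 1) (Fin.cons x v) : ExteriorAlgebra A M) =
      ExteriorAlgebra.ι A x * (ιMulti A q v : ExteriorAlgebra A M) := by
  rw [ιMulti_apply_coe, ιMulti_apply_coe, ExteriorAlgebra.ιMulti_succ_apply]
  simp [Matrix.vecTail, Function.comp_def]

omit [IsScalarTower R A M] in
theorem oneEquiv_gen (c : A) (b : Fin 1 → A) :
    oneEquiv A M (DeRham.gen δ 1 c b) = c • δ (b 0) := by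
  rw [DeRham.gen, map_smul, oneEquiv_ιMulti]

/-- The differential of a one-form wedged with exact one-forms. -/
theorem diff_cons (hspan : Submodule.span A (Set.range δ) = ⊤) (hd : DeRham.IsRule δ d)
    (q : ℕ) (a : A) (b : Fin q → A) (y : ↥(⋀[A]^1 M)) :
    (d (q + 1) (a • ιMulti A (q + 1) (Fin.cons (oneEquiv A M y) (fun i => δ (b i)))) :
      ExteriorAlgebra A M) =
    ExteriorAlgebra.ι A (δ a) * (ExteriorAlgebra.ι A (oneEquiv A M y) *
        (ιMulti A q (fun i => δ (b i)) : ExteriorAlgebra A M)) +
      a • ((d 1 y : ExteriorAlgebra A M) * (ιMulti A q (fun i => δ (b i)) : ExteriorAlgebra A M)) := by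
  induction y using induction_gen hspan with
  | h0 =>
    have h0 : ιMulti A (q + 1) (Fin.cons (0 : M) fun i => δ (b i)) = 0 :=
      (ιMulti A (q + 1)).map_coord_zero 0 (by simp)
    simp [h0]
  | hadd x y hx hy =>
    simp only [map_add, cons_add, smul_add, Submodule.coe_add, hx, hy, mul_add, add_mul]
    abel
  | hgen c v =>
    rw [oneEquiv_gen, cons_smul, smul_smul]
    have e : ιMulti A (q + 1) (Fin.cons (δ (v 0)) fun i => δ (b i)) =
        ιMulti A (q + 1) (fun i => δ ((Fin.cons (v 0) b : Fin (q + 1) → A) i)) := by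
      congr 1
      funext i
      cases i using Fin.cases <;> simp
    rw [e, ← DeRham.gen, hd, hd, coe_cons, coe_cons, ← e, coe_cons,
      show (fun i => δ (v i)) = (Fin.cons (δ (v 0)) (fun i => Fin.elim0 i) : Fin 1 → M) from
        funext fun i => by rw [Subsingleton.elim i 0, Fin.cons_zero],
      coe_cons, Derivation.leibniz, map_add, map_smul, map_smul, map_smul]
    simp only [ιMulti_apply_coe, ExteriorAlgebra.ιMulti_zero_apply, mul_one, one_mul, add_mul,
      smul_mul_assoc, mul_smul_comm, mul_assoc]
    exact add_comm _ _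

variable {M' : Type u} [AddCommGroup M'] [Module A M'] [Module R M'] [IsScalarTower R A M']

theorem map_diff_eq_zero (hspan : Submodule.span A (Set.range δ) = ⊤) (hd : DeRham.IsRule δ d)
    (π : M →ₗ[A] M') (hπ : Function.Surjective π)
    (hker : LinearMap.ker π ≤ Submodule.span A {ω : M | π ω = 0 ∧
      exteriorPower.map 2 π (d 1 ((oneEquiv A M).symm ω)) = 0})
    (p : ℕ) (x : ↥(⋀[A]^p M)) (hx : exteriorPower.map p π x = 0) :
    exteriorPower.map (p + 1) π (d p x) = 0 := by
  have hx' := ker_map_le π hπ p (LinearMap.mem_ker.mpr hx)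
  suffices ∀ a : A, exteriorPower.map (p + 1) π (d p (a • x)) = 0 by simpa using this 1
  clear hx
  induction hx' using Submodule.span_induction with
  | zero => intro a; simp
  | add y z _ _ hy hz => intro a; rw [smul_add, map_add, map_add, hy, hz, add_zero]
  | smul c y _ hy => intro a; rw [smul_smul]; exact hy _
  | mem y hy =>
    obtain ⟨v, ⟨i, hi⟩, rfl⟩ := hy
    obtain ⟨q, rfl⟩ : ∃ q, p = q + 1 := ⟨p - 1, by have := i.isLt; omega⟩
    suffices ∀ (ω : M), π ω = 0 → ∀ (z : ↥(⋀[A]^q M)) (a : A),
        exteriorPower.map (q + 1 + 1) π (d (q + 1)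
          (a • alternatingMapLinearEquiv ((ιMulti A (q + 1)).curryLeft ω) z)) = 0 by
      have hcons : ∀ w : Fin (q + 1) → M, π (w 0) = 0 → ∀ a : A,
          exteriorPower.map (q + 1 + 1) π (d (q + 1) (a • ιMulti A (q + 1) w)) = 0 := by
        intro w hw a
        have h2 := this (w 0) hw (ιMulti A q (Fin.tail w)) a
        rwa [alternatingMapLinearEquiv_apply_ιMulti,
          show (ιMulti A (q + 1)).curryLeft (w 0) (Fin.tail w) =
            ιMulti A (q + 1) (Fin.cons (w 0) (Fin.tail w)) from rfl, Fin.cons_self_tail] at h2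
      intro a
      rcases eq_or_ne i 0 with rfl | hne
      · exact hcons v hi a
      · have h1 := hcons (v ∘ Equiv.swap i 0) (by simpa using hi) a
        rwa [AlternatingMap.map_swap _ _ hne, smul_neg, map_neg, map_neg, neg_eq_zero] at h1
    intro ω hω z
    induction z using induction_gen hspan with
    | h0 => intro a; simp
    | hadd y z hy hz => intro a; simp [hy, hz]
    | hgen c b =>
      intro a
      rw [DeRham.gen, (alternatingMapLinearEquiv ((ιMulti A (q + 1)).curryLeft ω)).map_smul,
        alternatingMapLinearEquiv_apply_ιMulti, smul_smul]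
      generalize a * c = e
      change exteriorPower.map (q + 1 + 1) π (d (q + 1)
        (e • ιMulti A (q + 1) (Fin.cons ω fun i => δ (b i)))) = 0
      have hS := hker hω
      clear hω
      induction hS using Submodule.span_induction generalizing e with
      | zero =>
        have h0 : ιMulti A (q + 1) (Fin.cons (0 : M) fun i => δ (b i)) = 0 :=
          (ιMulti A (q + 1)).map_coord_zero 0 (by simp)
        simp [h0]
      | add y z _ _ hy hz => rw [cons_add, smul_add, map_add, map_add, hy, hz, add_zero]
      | smul r y _ hy => rw [cons_smul, smul_smul]; exact hy _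
      | mem y hy =>
        obtain ⟨hy1, hy2⟩ := hy
        have hcoe : ∀ (n : ℕ) (w : ↥(⋀[A]^n M)),
            (exteriorPower.map n π w : ExteriorAlgebra A M') =
              ExteriorAlgebra.map π (w : ExteriorAlgebra A M) := fun n => by
          have h2 : (⋀[A]^n M').subtype.comp (exteriorPower.map n π) =
              (ExteriorAlgebra.map π).toLinearMap.comp (⋀[A]^n M).subtype :=
            linearMap_ext (AlternatingMap.ext fun w => by simp)
          exact LinearMap.congr_fun h2
        have hf := diff_cons hspan hd q e b ((oneEquiv A M).symm y)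
        rw [LinearEquiv.apply_symm_apply] at hf
        refine Subtype.ext ?_
        rw [hcoe, hf, map_add, map_mul, map_mul, ExteriorAlgebra.map_apply_ι _ y, hy1, map_zero,
          zero_mul, mul_zero, zero_add, map_smul, map_mul, ← hcoe 2, hy2]
        simp

theorem exists_isDiff_quotient (hspan : Submodule.span A (Set.range δ) = ⊤)
    (hd : DeRham.IsDiff δ d) (π : M →ₗ[A] M') (hπ : Function.Surjective π)
    (hker : LinearMap.ker π ≤ Submodule.span A {ω : M | π ω = 0 ∧
      exteriorPower.map 2 π (d 1 ((oneEquiv A M).symm ω)) = 0}) :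
    ∃ d' : ∀ p : ℕ, ↥(⋀[A]^p M') →ₗ[R] ↥(⋀[A]^(p + 1) M'),
      DeRham.IsDiff (π.compDer δ) d' ∧
        ∀ (p : ℕ) (x : ↥(⋀[A]^p M)),
          d' p (exteriorPower.map p π x) = exteriorPower.map (p + 1) π (d p x) := by
  let F : ∀ p : ℕ, ↥(⋀[A]^p M) →ₗ[R] ↥(⋀[A]^p M') := fun p =>
    (exteriorPower.map p π).restrictScalars R
  have hF : ∀ p, Function.Surjective (F p) := fun p => exteriorPower.map_surjective hπ
  let G : ∀ p : ℕ, (↥(⋀[A]^p M) ⧸ LinearMap.ker (F p)) →ₗ[R] ↥(⋀[A]^(p + 1) M') := fun p =>
    (LinearMap.ker (F p)).liftQ ((F (p + 1)).comp (d p)) fun x hx =>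
      map_diff_eq_zero hspan hd.1 π hπ hker p x hx
  let d' : ∀ p : ℕ, ↥(⋀[A]^p M') →ₗ[R] ↥(⋀[A]^(p + 1) M') := fun p =>
    (G p).comp ((F p).quotKerEquivOfSurjective (hF p)).symm.toLinearMap
  have hd' : ∀ p x, d' p (exteriorPower.map p π x) = exteriorPower.map (p + 1) π (d p x) := by
    intro p x
    have : ((F p).quotKerEquivOfSurjective (hF p)).symm (F p x) = Submodule.Quotient.mk x := by
      rw [LinearEquiv.symm_apply_eq]; rfl
    show G p _ = _
    exact (congrArg (G p) this).trans rfl
  refine ⟨d', ?_, hd'⟩
  have hspan' : Submodule.span A (Set.range (π.compDer δ)) = ⊤ := by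
    have : Set.range (π.compDer δ) = π '' Set.range δ := by rw [← Set.range_comp]; rfl
    rw [this, ← Submodule.map_span, hspan, Submodule.map_top, LinearMap.range_eq_top.mpr hπ]
  refine isDiff_of_isRule hspan' fun p b₀ b => ?_
  have hgen : DeRham.gen (π.compDer δ) p b₀ b = exteriorPower.map p π (DeRham.gen δ p b₀ b) := by
    rw [DeRham.gen, DeRham.gen, map_smul, map_apply_ιMulti]; rfl
  rw [hgen, hd', hd.1, map_apply_ιMulti]
  congr 1
  funext i
  cases i using Fin.cases <;> simp

end Leibniz

end Groth.Agent.DR29
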