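import Groth.Agent.DR29.Basic
import Mathlib.LinearAlgebra.Basis.Defs

/-! The last step of the de Rham Cech complex of coordinate hyperplanes: lifting top forms. -/

set_option autoImplicit false

universe u

open exteriorPower

namespace Groth.Agent.DR29.SNC

variable (k : Type u) [Field k] {A : Type u} [CommRing A] [Algebra k A] {d n : ℕ} (t : Fin d → A)
  (e : Fin n ↪ Fin d)

/-- The ideal of a stratum. -/
abbrev idl (I : Finset (Fin n)) : Ideal A := ⨆ i ∈ I, Ideal.span {t (e i)}

/-- The derivation of a stratum. -/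
noncomputable abbrev DI (I : Finset (Fin n)) := KaehlerDifferential.D k (A ⧸ idl t e I)

/-- Forms on a stratum. -/
abbrev Form (I : Finset (Fin n)) (p : ℕ) := ↥(⋀[(A ⧸ idl t e I)]^p (Ω[(A ⧸ idl t e I)⁄k]))

theorem mk_eq_zero {J : Finset (Fin n)} {i : Fin n} (hi : i ∈ J) :
    Ideal.Quotient.mk (idl t e J) (t (e i)) = 0 :=
  Ideal.Quotient.eq_zero_iff_mem.2 <|
    (le_iSup₂ (f := fun i (_ : i ∈ J) => Ideal.span {t (e i)}) i hi) (Ideal.mem_span_singleton_self _)

variable (b : Module.Basis (Fin d) A (Ω[A⁄k])) (hb : ∀ i, b i = KaehlerDifferential.D k A (t i))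

include hb in
theorem D_mk_mem (J : Finset (Fin n)) (a : A) :
    DI k t e J (Ideal.Quotient.mk _ a) ∈ Submodule.span (A ⧸ idl t e J)
      (Set.range fun c : ↥((J.map e)ᶜ) => DI k t e J (Ideal.Quotient.mk _ (t c.1))) := by
  have h := b.sum_repr (KaehlerDifferential.D k A a)
  have h' := congrArg (KaehlerDifferential.map k k A (A ⧸ idl t e J)) h
  rw [map_sum, KaehlerDifferential.map_D] at h'
  rw [show DI k t e J (Ideal.Quotient.mk _ a) = DI k t e J (algebraMap A (A ⧸ idl t e J) a) from rfl, ← h']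
  refine Submodule.sum_mem _ fun c _ => ?_
  rw [map_smul, hb, KaehlerDifferential.map_D]
  by_cases hc : c ∈ J.map e
  · obtain ⟨i, hi, rfl⟩ := Finset.mem_map.1 hc
    rw [show algebraMap A (A ⧸ idl t e J) (t (e i)) = 0 from mk_eq_zero t e hi, map_zero, smul_zero]
    exact zero_mem _
  · rw [← algebraMap_smul (A ⧸ idl t e J)]
    exact Submodule.smul_mem _ _ (Submodule.subset_span ⟨⟨c, Finset.mem_compl.2 hc⟩, rfl⟩)

include hb in
theorem exists_top (J : Finset (Fin n)) (m : ℕ) (hm : J.card + m = d) (g : Form k t e J m) :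
    ∃ (f : A) (c : Fin m → Fin d), (∀ i, i ∉ J → ∃ a, c a = e i) ∧
      g = DeRham.gen (DI k t e J) m (Ideal.Quotient.mk _ f) fun a => Ideal.Quotient.mk _ (t (c a)) := by
  classical
  have hC : ((J.map e)ᶜ).card = m := by rw [Finset.card_compl, Finset.card_map, Fintype.card_fin]; omega
  let c : Fin m → Fin d := fun a => ((J.map e)ᶜ).orderEmbOfFin hC a
  let v : ↥((J.map e)ᶜ) → Ω[(A ⧸ idl t e J)⁄k] := fun c => DI k t e J (Ideal.Quotient.mk _ (t c.1))
  have hv : Submodule.span (A ⧸ idl t e J) (Set.range v) = ⊤ := by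
    rw [eq_top_iff, ← KaehlerDifferential.span_range_derivation, Submodule.span_le]
    rintro _ ⟨x, rfl⟩
    obtain ⟨a, rfl⟩ := Ideal.Quotient.mk_surjective x
    exact D_mk_mem k t e b hb J a
  have hone : ∀ s, ιMulti_family (A ⧸ idl t e J) m v s =
      DeRham.gen (DI k t e J) m 1 fun a => Ideal.Quotient.mk _ (t (c a)) := fun s => by
    rw [DeRham.gen, one_smul, ιMulti_family]
    congr 1
    funext a
    have hu : (fun a => ((Set.powersetCard.ofFinEmbEquiv.symm s) a).1) = c :=
      Finset.orderEmbOfFin_unique hC (fun a => ((Set.powersetCard.ofFinEmbEquiv.symm s) a).2)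
        fun a a' h => (Set.powersetCard.ofFinEmbEquiv.symm s).strictMono h
    exact congrArg (fun x => DI k t e J (Ideal.Quotient.mk _ (t x))) (congrFun hu a)
  have hg : g ∈ Submodule.span (A ⧸ idl t e J) {DeRham.gen (DI k t e J) m 1 fun a => Ideal.Quotient.mk _ (t (c a))} := by
    refine Submodule.span_mono ?_ ((exteriorPower.ιMulti_family_span_of_span (n := m) (A ⧸ idl t e J) hv).ge Submodule.mem_top)
    rintro _ ⟨s, rfl⟩
    exact hone s
  obtain ⟨r, hr⟩ := Submodule.mem_span_singleton.1 hg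
  obtain ⟨f, rfl⟩ := Ideal.Quotient.mk_surjective r
  refine ⟨f, c, fun i hi => ?_, ?_⟩
  · have : e i ∈ Set.range ((J.map e)ᶜ.orderEmbOfFin hC) := by
      rw [Finset.range_orderEmbOfFin]
      simpa using hi
    exact this
  · rw [← hr, smul_gen, mul_one]

variable (ψ : ∀ (I J : Finset (Fin n)) (p : ℕ), Form k t e I p →+ Form k t e J p)
  (hψ : ∀ (I J : Finset (Fin n)) (h : I ⊆ J),
    DeRham.IsCxMap (DI k t e I) (DI k t e J) (Ideal.Quotient.factor (biSup_mono h)) (ψ I J))

include hb hψ in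
/-- The Čech differential onto the top forms is surjective. -/
theorem lift (s m : ℕ) (hs : s + 1 + m = d) (g : ∀ J, Form k t e J m) :
    ∃ ω : ∀ I, Form k t e I m, ∀ J : Finset (Fin n), J.card = s + 1 →
      (∑ j ∈ J.attach, ((-1 : ℤ) ^ (J.filter (fun i => i < j.1)).card) •
        ψ (J.erase j.1) J m (ω (J.erase j.1))) = g J := by
  classical
  have hex : ∀ J : Finset (Fin n), ∃ (f : A) (c : Fin m → Fin d), J.card = s + 1 →
      (∀ i, i ∉ J → ∃ a, c a = e i) ∧
        g J = DeRham.gen (DI k t e J) m (Ideal.Quotient.mk _ f) fun a => Ideal.Quotient.mk _ (t (c a)) := by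
    intro J
    by_cases hJ : J.card = s + 1
    · obtain ⟨f, c, h⟩ := exists_top k t e b hb J m (by omega) (g J)
      exact ⟨f, c, fun _ => h⟩
    · exact ⟨0, fun a => ⟨0, by have := a.2; omega⟩, fun h => absurd h hJ⟩
  choose f c hfc using hex
  refine ⟨fun I => ∑ j ∈ Finset.univ.filter (fun j => ∀ i ∈ I, j < i),
    DeRham.gen (DI k t e I) m (Ideal.Quotient.mk _ (f (insert j I)))
      (fun a => Ideal.Quotient.mk _ (t (c (insert j I) a))), fun J hJ => ?_⟩
  have hJne : J.Nonempty := Finset.card_pos.1 (by omega)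
  have hterm : ∀ j ∈ J, ∀ j' : Fin n, (∀ i ∈ J.erase j, j' < i) → j' ≠ j →
      ψ (J.erase j) J m (DeRham.gen (DI k t e (J.erase j)) m (Ideal.Quotient.mk _ (f (insert j' (J.erase j))))
        (fun a => Ideal.Quotient.mk _ (t (c (insert j' (J.erase j)) a)))) = 0 := by
    intro j hj j' hlt hne
    have hnm : j' ∉ J.erase j := fun h => lt_irrefl _ (hlt j' h)
    obtain ⟨hc, -⟩ := hfc (insert j' (J.erase j)) (by
      rw [Finset.card_insert_of_notMem hnm, Finset.card_erase_of_mem hj]; omega)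
    obtain ⟨a, ha⟩ := hc j (by simp [Ne.symm hne])
    rw [hψ _ _ (Finset.erase_subset j J), DeRham.gen]
    refine (congrArg _ (AlternatingMap.map_coord_zero _ a ?_)).trans (smul_zero _)
    show DI k t e J (Ideal.Quotient.mk _ (t (c _ a))) = 0
    rw [ha, mk_eq_zero t e hj, map_zero]
  rw [Finset.sum_attach J (fun j => ((-1 : ℤ) ^ (J.filter (fun i => i < j)).card) •
    ψ (J.erase j) J m (∑ j' ∈ Finset.univ.filter (fun j' => ∀ i ∈ J.erase j, j' < i),
      DeRham.gen (DI k t e (J.erase j)) m (Ideal.Quotient.mk _ (f (insert j' (J.erase j))))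
        (fun a => Ideal.Quotient.mk _ (t (c (insert j' (J.erase j)) a)))))]
  have hmin := Finset.min'_mem J hJne
  rw [Finset.sum_eq_single_of_mem (J.min' hJne) hmin]
  · have hlt : ∀ i ∈ J.erase (J.min' hJne), J.min' hJne < i := fun i hi =>
      lt_of_le_of_ne (J.min'_le i (Finset.mem_of_mem_erase hi)) (Ne.symm (Finset.ne_of_mem_erase hi))
    have h0 : J.filter (fun i => i < J.min' hJne) = ∅ :=
      Finset.filter_eq_empty_iff.2 fun i hi => not_lt.2 (J.min'_le i hi)
    rw [h0, Finset.card_empty, pow_zero, one_smul, map_sum, Finset.sum_eq_single_of_mem (J.min' hJne)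
      (Finset.mem_filter.2 ⟨Finset.mem_univ _, hlt⟩)
      (fun j' hj' hne => hterm _ hmin j' (Finset.mem_filter.1 hj').2 hne)]
    rw [hψ _ _ (Finset.erase_subset _ J), Finset.insert_erase hmin]
    exact (hfc J hJ).2.symm
  · intro j hj hne
    rw [map_sum, Finset.sum_eq_zero, smul_zero]
    intro j' hj'
    refine hterm j hj j' (Finset.mem_filter.1 hj').2 ?_
    rintro rfl
    have := (Finset.mem_filter.1 hj').2 _ (Finset.mem_erase.2 ⟨Ne.symm hne, hmin⟩)
    exact absurd this (not_lt.2 (J.min'_le _ hj))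

end Groth.Agent.DR29.SNC
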