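import Groth.Agent.DR29.Homotopy
import Mathlib.Algebra.Ring.Subring.Basic

/-! Eliminating a variable from the forms of a subring. -/

set_option autoImplicit false

universe v u

open exteriorPower

namespace Groth.Agent.DR29

variable {R : Type v} {A M : Type u} [CommRing R] [CommRing A] [Algebra R A]
  [AddCommGroup M] [Module A M] [Module R M]

/-- The forms with entries in a subring. -/
def subForms (δ : Derivation R A M) (S : Subring A) (q : ℕ) : AddSubgroup ↥(⋀[A]^q M) :=
  AddSubgroup.closure {x | ∃ b₀ ∈ S, ∃ b : Fin q → A, (∀ i, b i ∈ S) ∧ DeRham.gen δ q b₀ b = x}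

theorem gen_mem_subForms (δ : Derivation R A M) {S : Subring A} {q : ℕ} {b₀ : A} (h₀ : b₀ ∈ S)
    {b : Fin q → A} (h : ∀ i, b i ∈ S) : DeRham.gen δ q b₀ b ∈ subForms δ S q :=
  AddSubgroup.subset_closure ⟨b₀, h₀, b, h, rfl⟩

theorem wedge_gen (δ : Derivation R A M) (q : ℕ) (c b₀ : A) (b : Fin q → A) :
    wedge (δ c) q (DeRham.gen δ q b₀ b) = DeRham.gen δ (q + 1) b₀ (Fin.cons c b) := by
  rw [DeRham.gen, DeRham.gen, map_smul, wedge_iMulti]
  congr 2
  funext i
  cases i using Fin.cases <;> simp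

theorem smul_mem_subForms {δ : Derivation R A M} {S : Subring A} {s : A} (hs : s ∈ S) {q : ℕ}
    {x : ↥(⋀[A]^q M)} (hx : x ∈ subForms δ S q) : s • x ∈ subForms δ S q := by
  induction hx using AddSubgroup.closure_induction with
  | mem x hx =>
    obtain ⟨b₀, h₀, b, hb, rfl⟩ := hx
    rw [smul_gen]
    exact gen_mem_subForms δ (mul_mem hs h₀) hb
  | zero => rw [smul_zero]; exact zero_mem _
  | add x y _ _ hx hy => rw [smul_add]; exact add_mem hx hy
  | neg x _ hx => rw [smul_neg]; exact neg_mem hx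

theorem wedge_mem_subForms {δ : Derivation R A M} {S : Subring A} {s : A} (hs : s ∈ S) {q : ℕ}
    {x : ↥(⋀[A]^q M)} (hx : x ∈ subForms δ S q) : wedge (δ s) q x ∈ subForms δ S (q + 1) := by
  induction hx using AddSubgroup.closure_induction with
  | mem x hx =>
    obtain ⟨b₀, h₀, b, hb, rfl⟩ := hx
    rw [wedge_gen]
    exact gen_mem_subForms δ h₀ (Fin.cases hs hb)
  | zero => rw [map_zero]; exact zero_mem _
  | add x y _ _ hx hy => rw [map_add]; exact add_mem hx hy
  | neg x _ hx => rw [map_neg]; exact neg_mem hx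

omit [Algebra R A] [Module R M] in
theorem wedge_wedge_comm (v w : M) (q : ℕ) (x : ↥(⋀[A]^q M)) :
    wedge v (q + 1) (wedge w q x) = - wedge w (q + 1) (wedge v q x) := by
  refine Subtype.ext ?_
  show ExteriorAlgebra.ι A v * (ExteriorAlgebra.ι A w * x.1) =
    -(ExteriorAlgebra.ι A w * (ExteriorAlgebra.ι A v * x.1))
  rw [← mul_assoc, ← mul_assoc, eq_neg_iff_add_eq_zero, ← add_mul,
    ExteriorAlgebra.ι_add_mul_swap, zero_mul]

variable [IsScalarTower R A M] {δ : Derivation R A M}

theorem subForms_top (hspan : Submodule.span A (Set.range δ) = ⊤) (q : ℕ) (x : ↥(⋀[A]^q M)) :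
    x ∈ subForms δ ⊤ q :=
  induction_gen hspan (P := (· ∈ subForms δ ⊤ q)) (zero_mem _) (fun _ _ => add_mem)
    (fun _ _ => gen_mem_subForms δ (Subring.mem_top _) fun _ => Subring.mem_top _) x

variable {d : ∀ p : ℕ, ↥(⋀[A]^p M) →ₗ[R] ↥(⋀[A]^(p + 1) M)}

/-- A variable over a subring whose forms are free of it. -/
noncomputable def Var.ofSubring (hspan : Submodule.span A (Set.range δ) = ⊤) (hd : DeRham.IsDiff δ d)
    (X : A) (e : ℕ → A) (e_zero : e 0 = 1) (diff_e : ∀ m, δ (e (m + 1)) = e m • δ X)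
    (θ : Module.Dual A M) (θ_X : θ (δ X) = 1) (S : Subring A) (hS : ∀ s ∈ S, θ (δ s) = 0) :
    Var δ d where
  hspan := hspan
  hd := hd
  X := X
  e := e
  e_zero := e_zero
  diff_e := diff_e
  θ := θ
  θ_X := θ_X
  G := subForms δ S
  G_diff q x hx := by
    induction hx using AddSubgroup.closure_induction with
    | mem x hx =>
      obtain ⟨b₀, h₀, b, hb, rfl⟩ := hx
      rw [hd.1, iMulti_cons_eq_gen]
      exact gen_mem_subForms δ (one_mem S) (Fin.cases h₀ hb)
    | zero => rw [map_zero]; exact zero_mem _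
    | add x y _ _ hx hy => rw [map_add]; exact add_mem hx hy
    | neg x _ hx => rw [map_neg]; exact neg_mem hx
  G_θ q x hx := by
    induction hx using AddSubgroup.closure_induction with
    | mem x hx =>
      obtain ⟨b₀, _, b, hb, rfl⟩ := hx
      suffices h : ∀ (q : ℕ) (b : Fin (q + 1) → A), (∀ i, b i ∈ S) →
          contr θ q (ιMulti A (q + 1) fun i => δ (b i)) = 0 by
        rw [DeRham.gen, map_smul, h q b hb, smul_zero]
      intro q
      induction q with
      | zero =>
        intro b hb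
        rw [← Fin.cons_self_tail (fun i => δ (b i)), ← wedge_iMulti, contr_wedge_zero]
        rw [hS _ (hb 0), zero_smul]
      | succ q ih =>
        intro b hb
        rw [← Fin.cons_self_tail (fun i => δ (b i)), ← wedge_iMulti, contr_wedge_succ,
          hS _ (hb 0), zero_smul]
        have h2 : contr θ q (ιMulti A (q + 1) (Fin.tail fun i => δ (b i))) = 0 :=
          ih (fun i => b i.succ) fun i => hb _
        rw [h2, map_zero, sub_zero]
    | zero => rw [map_zero]
    | add x y _ _ hx hy => rw [map_add, hx, hy, add_zero]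
    | neg x _ hx => rw [map_neg, hx, neg_zero]

/-- The elements `Σ e m * s`. -/
def extended (e : ℕ → A) (S : Subring A) : AddSubgroup A :=
  AddSubgroup.closure {a | ∃ m, ∃ s ∈ S, e m * s = a}

/-- Forms spanned by integrals times free forms, with the optional wedge by the variable. -/
def varForms (V : Var δ d) : ∀ q : ℕ, AddSubgroup ↥(⋀[A]^q M)
  | 0 => AddSubgroup.closure {x | ∃ m, ∃ g ∈ V.G 0, V.e m • g = x}
  | q + 1 => AddSubgroup.closure ({x | ∃ m, ∃ g ∈ V.G (q + 1), V.e m • g = x} ∪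
      {x | ∃ m, ∃ g ∈ V.G q, V.e m • wedge (δ V.X) q g = x})

theorem smul_mem_varForms_left (V : Var δ d) {q : ℕ} (m : ℕ) {g : ↥(⋀[A]^q M)} (hg : g ∈ V.G q) :
    V.e m • g ∈ varForms V q := by
  rcases q with _ | q
  exacts [AddSubgroup.subset_closure ⟨m, g, hg, rfl⟩, AddSubgroup.subset_closure (.inl ⟨m, g, hg, rfl⟩)]

theorem Var.dec₀_of_mem (V : Var δ d) {x : ↥(⋀[A]^0 M)} (hx : x ∈ varForms V 0) : V.Dec₀ x := by
  suffices h : V.Dec₀ x ∧ V.Dec₀ (-x) from h.1
  refine AddSubgroup.closure_induction (p := fun x _ => V.Dec₀ x ∧ V.Dec₀ (-x)) ?_ ?_ ?_ ?_ hx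
  · rintro _ ⟨m, g, hg, rfl⟩
    exact ⟨V.dec₀_smul_G m g hg, by
      rw [show -(V.e m • g) = V.e m • (-g) from (smul_neg _ _).symm]; exact V.dec₀_smul_G m _ (neg_mem hg)⟩
  · exact ⟨V.dec₀_zero, by rw [neg_zero]; exact V.dec₀_zero⟩
  · exact fun x y _ _ hx hy => ⟨V.dec₀_add hx.1 hy.1, by rw [neg_add]; exact V.dec₀_add hx.2 hy.2⟩
  · exact fun x _ hx => ⟨hx.2, by rw [neg_neg]; exact hx.1⟩

theorem Var.dec_of_mem (V : Var δ d) {q : ℕ} {x : ↥(⋀[A]^(q + 1) M)} (hx : x ∈ varForms V (q + 1)) :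
    V.Dec q x := by
  suffices h : V.Dec q x ∧ V.Dec q (-x) from h.1
  refine AddSubgroup.closure_induction (p := fun x _ => V.Dec q x ∧ V.Dec q (-x)) ?_ ?_ ?_ ?_ hx
  · rintro _ (⟨m, g, hg, rfl⟩ | ⟨m, g, hg, rfl⟩)
    · exact ⟨V.dec_smul_G q m g hg, by
        rw [show -(V.e m • g) = V.e m • (-g) from (smul_neg _ _).symm]; exact V.dec_smul_G q m _ (neg_mem hg)⟩
    · exact ⟨V.dec_smul_wedge q m g hg, by
        rw [show -(V.e m • wedge (δ V.X) q g) = V.e m • wedge (δ V.X) q (-g) by rw [map_neg]; exact (smul_neg _ _).symm]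
        exact V.dec_smul_wedge q m _ (neg_mem hg)⟩
  · exact ⟨V.dec_zero q, by rw [neg_zero]; exact V.dec_zero q⟩
  · exact fun x y _ _ hx hy => ⟨V.dec_add hx.1 hy.1, by rw [neg_add]; exact V.dec_add hx.2 hy.2⟩
  · exact fun x _ hx => ⟨hx.2, by rw [neg_neg]; exact hx.1⟩

/-- One step of elimination. -/
theorem eliminate (hspan : Submodule.span A (Set.range δ) = ⊤) (hd : DeRham.IsDiff δ d)
    (X : A) (e : ℕ → A) (e_zero : e 0 = 1) (diff_e : ∀ m, δ (e (m + 1)) = e m • δ X)
    (e_mul : ∀ m k, ∃ c : ℕ, e m * e k = c • e (m + k))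
    (θ : Module.Dual A M) (θ_X : θ (δ X) = 1) (S T : Subring A) (hS : ∀ s ∈ S, θ (δ s) = 0)
    (hT : ∀ t ∈ T, t ∈ extended e S)
    (q : ℕ) (ω : ↥(⋀[A]^q M)) (hω : ω ∈ subForms δ T q) (hc : d q ω = 0) :
    ∃ g ∈ subForms δ S q, d q g = 0 ∧ ω - g ∈ DeRham.coboundaries d q := by
  let V : Var δ d := Var.ofSubring hspan hd X e e_zero diff_e θ θ_X S hS
  have he : ∀ (q m : ℕ) (x : ↥(⋀[A]^q M)), x ∈ varForms V q → e m • x ∈ varForms V q := by
    intro q m x hx
    rcases q with _ | q
    all_goals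
      induction hx using AddSubgroup.closure_induction with
      | zero => rw [smul_zero]; exact zero_mem _
      | add x y _ _ hx hy => rw [smul_add]; exact add_mem hx hy
      | neg x _ hx => rw [smul_neg]; exact neg_mem hx
      | mem x hx => ?_
    · obtain ⟨k, g, hg, rfl⟩ := hx
      obtain ⟨c, hc⟩ := e_mul m k
      rw [smul_smul, show e m * V.e k = c • e (m + k) from hc, smul_assoc]
      exact nsmul_mem (smul_mem_varForms_left V _ hg) c
    · obtain ⟨k, g, hg, rfl⟩ | ⟨k, g, hg, rfl⟩ := hx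
      · obtain ⟨c, hc⟩ := e_mul m k
        rw [smul_smul, show e m * V.e k = c • e (m + k) from hc, smul_assoc]
        exact nsmul_mem (smul_mem_varForms_left V _ hg) c
      · obtain ⟨c, hc⟩ := e_mul m k
        rw [smul_smul, show e m * V.e k = c • e (m + k) from hc, smul_assoc]
        exact nsmul_mem (AddSubgroup.subset_closure (.inr ⟨m + k, g, hg, rfl⟩)) c
  have hs : ∀ (q : ℕ) (s : A), s ∈ S → ∀ x ∈ varForms V q, s • x ∈ varForms V q := by
    intro q s hs x hx
    rcases q with _ | q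
    all_goals
      induction hx using AddSubgroup.closure_induction with
      | zero => rw [smul_zero]; exact zero_mem _
      | add x y _ _ hx hy => rw [smul_add]; exact add_mem hx hy
      | neg x _ hx => rw [smul_neg]; exact neg_mem hx
      | mem x hx => ?_
    · obtain ⟨k, g, hg, rfl⟩ := hx
      rw [smul_comm]
      exact smul_mem_varForms_left V _ (smul_mem_subForms hs hg)
    · obtain ⟨k, g, hg, rfl⟩ | ⟨k, g, hg, rfl⟩ := hx
      · rw [smul_comm]
        exact smul_mem_varForms_left V _ (smul_mem_subForms hs hg)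
      · rw [smul_comm, ← map_smul]
        exact AddSubgroup.subset_closure (.inr ⟨k, _, smul_mem_subForms hs hg, rfl⟩)
  have hwS : ∀ (q : ℕ) (s : A), s ∈ S → ∀ x ∈ varForms V q, wedge (δ s) q x ∈ varForms V (q + 1) := by
    intro q s hs x hx
    rcases q with _ | q
    all_goals
      induction hx using AddSubgroup.closure_induction with
      | zero => rw [map_zero]; exact zero_mem _
      | add x y _ _ hx hy => rw [map_add]; exact add_mem hx hy
      | neg x _ hx => rw [map_neg]; exact neg_mem hx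
      | mem x hx => ?_
    · obtain ⟨k, g, hg, rfl⟩ := hx
      rw [map_smul]
      exact smul_mem_varForms_left V _ (wedge_mem_subForms hs hg)
    · obtain ⟨k, g, hg, rfl⟩ | ⟨k, g, hg, rfl⟩ := hx
      · rw [map_smul]
        exact smul_mem_varForms_left V _ (wedge_mem_subForms hs hg)
      · rw [map_smul, wedge_wedge_comm, smul_neg]
        exact neg_mem (AddSubgroup.subset_closure (.inr ⟨k, _, wedge_mem_subForms hs hg, rfl⟩))
  have hwX : ∀ (q : ℕ), ∀ x ∈ varForms V q, wedge (δ X) q x ∈ varForms V (q + 1) := by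
    intro q x hx
    rcases q with _ | q
    all_goals
      induction hx using AddSubgroup.closure_induction with
      | zero => rw [map_zero]; exact zero_mem _
      | add x y _ _ hx hy => rw [map_add]; exact add_mem hx hy
      | neg x _ hx => rw [map_neg]; exact neg_mem hx
      | mem x hx => ?_
    · obtain ⟨k, g, hg, rfl⟩ := hx
      rw [map_smul]
      exact AddSubgroup.subset_closure (.inr ⟨k, g, hg, rfl⟩)
    · obtain ⟨k, g, hg, rfl⟩ | ⟨k, g, hg, rfl⟩ := hx
      · rw [map_smul]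
        exact AddSubgroup.subset_closure (.inr ⟨k, g, hg, rfl⟩)
      · rw [map_smul, show wedge (δ X) (q + 1) (wedge (δ V.X) q g) = 0 from wedge_self _ _ _, smul_zero]
        exact zero_mem _
  have hext : ∀ (q : ℕ) (t : A), t ∈ extended e S → ∀ x ∈ varForms V q,
      t • x ∈ varForms V q ∧ wedge (δ t) q x ∈ varForms V (q + 1) := by
    intro q t ht x hx
    induction ht using AddSubgroup.closure_induction with
    | mem a ha =>
      obtain ⟨m, s, hsS, rfl⟩ := ha
      refine ⟨by rw [mul_smul]; exact he q m _ (hs q s hsS x hx), ?_⟩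
      rw [Derivation.leibniz, wedge_add_left, wedge_smul_left, wedge_smul_left]
      refine add_mem (he _ m _ (hwS q s hsS x hx)) (hs _ s hsS _ ?_)
      rcases m with _ | m
      · rw [e_zero, Derivation.map_one_eq_zero, wedge_zero_left]; exact zero_mem _
      · rw [diff_e, wedge_smul_left]; exact he _ m _ (hwX q x hx)
    | zero => rw [zero_smul, map_zero, wedge_zero_left]; exact ⟨zero_mem _, zero_mem _⟩
    | add a b _ _ ha hb =>
      rw [add_smul, map_add, wedge_add_left]
      exact ⟨add_mem ha.1 hb.1, add_mem ha.2 hb.2⟩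
    | neg a _ ha =>
      have h1 : (-a) • x = -(a • x) := neg_smul a x
      have h2 : wedge (δ (-a)) q x = -(wedge (δ a) q x) := Subtype.ext (by
        rw [coe_wedge, map_neg, map_neg, neg_mul]; rfl)
      rw [h1, h2]
      exact ⟨neg_mem ha.1, neg_mem ha.2⟩
  have hwedges : ∀ (q : ℕ) (b : Fin q → A), (∀ i, b i ∈ T) →
      ιMulti A q (fun i => δ (b i)) ∈ varForms V q := by
    intro q
    induction q with
    | zero =>
      intro b _
      have h : DeRham.gen δ 0 1 b ∈ subForms δ S 0 := gen_mem_subForms δ (one_mem S) fun i => i.elim0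
      have h2 := smul_mem_varForms_left V 0 h
      rwa [V.e_zero, one_smul, DeRham.gen, one_smul] at h2
    | succ q ih =>
      intro b hb
      rw [← Fin.cons_self_tail (fun i => δ (b i)), ← wedge_iMulti]
      exact (hext q _ (hT _ (hb 0)) _ (ih (fun i => b i.succ) fun i => hb _)).2
  have hmem : ω ∈ varForms V q := by
    refine AddSubgroup.closure_le (varForms V q) |>.mpr ?_ hω
    rintro _ ⟨b₀, h₀, b, hb, rfl⟩
    exact (hext q _ (hT _ h₀) _ (hwedges q b hb)).1
  rcases q with _ | q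
  · exact ⟨ω, V.closed₀ ω (V.dec₀_of_mem hmem) hc, hc, by rw [sub_self]; exact zero_mem _⟩
  · obtain ⟨g, hg, hgc, η, hη⟩ := V.closed q ω (V.dec_of_mem hmem) hc
    exact ⟨g, hg, hgc, η, hη.symm⟩

end Groth.Agent.DR29
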